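import Mathlib

/-!
Derived length of `p`-groups of linear transformations in characteristic prime to `p`.

If the field contains a primitive `p`-th root of unity, a `p`-group acting on a space of dimension
`n` has derived length at most `log₂ n + 1` modulo the kernel of the action.
-/

set_option autoImplicit false

namespace Cfsg.Agent.Lib.DerivedLength

open Module
open scoped commutatorElement

universe u v w

/-- A normal subgroup containing the commutators shifts the derived series by one. -/
theorem derivedSeries_succ_le {P : Type u} [Group P] (M : Subgroup P) (hM : commutator P ≤ M) :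
    ∀ j : ℕ, derivedSeries P (j + 1) ≤ (derivedSeries M j).map M.subtype := by
  intro j
  induction j with
  | zero =>
    rw [derivedSeries_one, derivedSeries_zero, ← MonoidHom.range_eq_map, Subgroup.range_subtype]
    exact hM
  | succ j ih =>
    rw [derivedSeries_succ P (j + 1), derivedSeries_succ M j, Subgroup.map_commutator]
    exact Subgroup.commutator_mono ih ih

/-- A finite abelian `p`-group with at most `p` solutions of `x ^ p = 1` is cyclic. -/
theorem isCyclic_of_card_roots_le {A : Type u} [CommGroup A] [Finite A] {p : ℕ} [hp : Fact p.Prime]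
    (hA : IsPGroup p A) (h : Nat.card {a : A // a ^ p = 1} ≤ p) : IsCyclic A := by
  classical
  have hker : ∀ k : ℕ, Nat.card (powMonoidHom (p ^ k) : A →* A).ker ≤ p ^ k := by
    intro k
    induction k with
    | zero =>
      have : (powMonoidHom (p ^ 0) : A →* A).ker = ⊥ := by
        ext a; simp [powMonoidHom_apply]
      rw [this, Subgroup.card_bot, pow_zero]
    | succ k ih =>
      set K := (powMonoidHom (p ^ (k + 1)) : A →* A).ker
      let g : K →* (powMonoidHom (p ^ k) : A →* A).ker :=
        ((powMonoidHom p : A →* A).comp K.subtype).codRestrict _ fun a => by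
          have ha : (a : A) ^ p ^ (k + 1) = 1 := a.2
          rw [MonoidHom.mem_ker, powMonoidHom_apply]
          simp only [MonoidHom.coe_comp, Function.comp_apply, Subgroup.coe_subtype,
            powMonoidHom_apply]
          rw [← pow_mul, ← pow_succ', ha]
      have h1 := g.ker.card_mul_index
      rw [Subgroup.index_ker] at h1
      rw [← h1, pow_succ']
      refine Nat.mul_le_mul ?_ (le_trans (Subgroup.card_le_card_group _) ih)
      refine le_trans (Nat.card_le_card_of_injective
        (fun a : g.ker => (⟨((a : K) : A), congrArg Subtype.val a.2⟩ : {a : A // a ^ p = 1})) ?_) h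
      intro a b hab
      have h' := congrArg Subtype.val hab
      exact Subtype.ext (Subtype.ext h')
  haveI : Fintype A := Fintype.ofFinite A
  refine isCyclic_of_card_pow_eq_one_le fun n hn => ?_
  obtain ⟨N, hN⟩ := IsPGroup.iff_card.mp hA
  obtain ⟨k, -, hk⟩ := (Nat.dvd_prime_pow hp.out).mp (hN ▸ Nat.gcd_dvd_right n (Nat.card A))
  calc (Finset.univ.filter fun a : A => a ^ n = 1).card
      ≤ Nat.card (powMonoidHom (p ^ k) : A →* A).ker := by
        rw [Nat.card_eq_fintype_card, Fintype.card_subtype]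
        refine Finset.card_le_card fun a ha => ?_
        simp only [Finset.mem_filter, Finset.mem_univ, true_and] at ha ⊢
        rw [MonoidHom.mem_ker, powMonoidHom_apply, ← hk]
        refine pow_gcd_eq_one.mpr ⟨ha, ?_⟩
        rw [← hN]
        exact pow_card_eq_one'
    _ ≤ p ^ k := hker k
    _ ≤ n := hk ▸ Nat.le_of_dvd hn (Nat.gcd_dvd_left _ _)

variable {F : Type v} [Field F] {p : ℕ} [hp : Fact p.Prime]

/-- A finite `p`-group acting trivially on a subspace and on the quotient acts trivially, when the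
characteristic is prime to `p`. -/
theorem eq_one_of_stabilizes {P : Type u} [Group P] {V : Type w} [AddCommGroup V] [Module F V]
    (hpF : (p : F) ≠ 0) (hP : IsPGroup p P) (ρ : Representation F P V) (U : Submodule F V) (g : P)
    (h1 : ∀ v ∈ U, ρ g v = v) (h2 : ∀ v, ρ g v - v ∈ U) : ρ g = 1 := by
  refine LinearMap.ext fun v => ?_
  show ρ g v = v
  have hpow : ∀ m : ℕ, ρ (g ^ m) v = v + (m : F) • (ρ g v - v) := by
    intro m
    induction m with
    | zero => simp
    | succ m ih =>
      rw [pow_succ', map_mul, Module.End.mul_apply, ih, map_add, map_smul, h1 _ (h2 v),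
        Nat.cast_add, Nat.cast_one, add_smul, one_smul]
      abel
  obtain ⟨k, hk⟩ := hP g
  have := hpow (p ^ k)
  rw [hk, map_one, Module.End.one_apply, left_eq_add, Nat.cast_pow, smul_eq_zero] at this
  exact sub_eq_zero.mp (this.resolve_left (pow_ne_zero k hpF))

/-- The restriction of a representation to an invariant subspace. -/
def restrict {P : Type u} [Group P] {V : Type w} [AddCommGroup V] [Module F V]
    (ρ : Representation F P V) (U : Submodule F V) (hU : ∀ g, ∀ v ∈ U, ρ g v ∈ U) :
    Representation F P U where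
  toFun g := (ρ g).restrict (hU g)
  map_one' := LinearMap.ext fun v => Subtype.ext (by simp)
  map_mul' g h := LinearMap.ext fun v => Subtype.ext (by simp)

/-- The induced representation on the quotient by an invariant subspace. -/
def quot {P : Type u} [Group P] {V : Type w} [AddCommGroup V] [Module F V]
    (ρ : Representation F P V) (U : Submodule F V) (hU : ∀ g, ∀ v ∈ U, ρ g v ∈ U) :
    Representation F P (V ⧸ U) where
  toFun g := U.mapQ U (ρ g) (hU g)
  map_one' := Submodule.linearMap_qext _ (LinearMap.ext fun v => by simp)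
  map_mul' g h := Submodule.linearMap_qext _ (LinearMap.ext fun v => by simp)

/-- Reduction to faithful irreducible actions. -/
theorem reduce {B : ℕ → ℕ} (hB : Monotone B) (hpF : (p : F) ≠ 0)
    (irr : ∀ (P : Type u) [Group P] [Finite P], IsPGroup p P → ∀ (V : Type w) [AddCommGroup V]
      [Module F V] [FiniteDimensional F V] (ρ : Representation F P V), Function.Injective ρ →
      (∀ U : Submodule F V, (∀ g, ∀ v ∈ U, ρ g v ∈ U) → U = ⊥ ∨ U = ⊤) →
      (∀ (P' : Type u) [Group P'] [Finite P'], IsPGroup p P' → ∀ (W : Type w) [AddCommGroup W]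
        [Module F W] [FiniteDimensional F W] (σ : Representation F P' W),
        finrank F W < finrank F V →
        ∀ g ∈ derivedSeries P' (B (finrank F W) + 1), σ g = 1) →
      ∀ g ∈ derivedSeries P (B (finrank F V) + 1), ρ g = 1) :
    ∀ (n : ℕ) (P : Type u) [Group P] [Finite P], IsPGroup p P → ∀ (V : Type w) [AddCommGroup V]
      [Module F V] [FiniteDimensional F V] (ρ : Representation F P V), finrank F V = n →
      ∀ g ∈ derivedSeries P (B n + 1), ρ g = 1 := by
  intro n
  induction n using Nat.strong_induction_on with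
  | _ n ih => ?_
  intro P _ _ hP V _ _ _ ρ hn g hg
  by_cases hirr : ∀ U : Submodule F V, (∀ g, ∀ v ∈ U, ρ g v ∈ U) → U = ⊥ ∨ U = ⊤
  · -- pass to the image
    subst hn
    set K : Subgroup P := MonoidHom.ker ρ
    let q := QuotientGroup.mk' K
    let ρ' : Representation F (P ⧸ K) V := QuotientGroup.lift K ρ le_rfl
    have hinj : Function.Injective ρ' := by
      intro a b hab
      obtain ⟨a, rfl⟩ := QuotientGroup.mk_surjective a
      obtain ⟨b, rfl⟩ := QuotientGroup.mk_surjective b
      rw [QuotientGroup.eq]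
      show ρ (a⁻¹ * b) = 1
      have h' : ρ a = ρ b := hab
      rw [map_mul, ← h', ← map_mul, inv_mul_cancel, map_one]
    have hg' : q g ∈ derivedSeries (P ⧸ K) (B (finrank F V) + 1) :=
      map_derivedSeries_le_derivedSeries q _ ⟨g, hg, rfl⟩
    exact irr (P ⧸ K) (hP.to_quotient _) V ρ' hinj
      (fun U hU => hirr U fun g => hU (q g))
      (fun P' _ _ hP' W _ _ _ σ hlt => ih _ hlt P' hP' W σ rfl) _ hg'
  · push Not at hirr
    obtain ⟨U, hU, hU0, hUtop⟩ := hirr
    have hUn : finrank F U < n := hn ▸ Submodule.finrank_lt hUtop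
    have hQn : finrank F (V ⧸ U) < n := by
      have h1 := U.finrank_quotient_add_finrank
      have h2 : 1 ≤ finrank F U := Submodule.one_le_finrank_iff.mpr hU0
      omega
    have hmono : ∀ m, m < n → derivedSeries P (B n + 1) ≤ derivedSeries P (B m + 1) :=
      fun m hm => derivedSeries_antitone P (Nat.add_le_add_right (hB hm.le) 1)
    have h1 := ih _ hUn P hP U (restrict ρ U hU) rfl g (hmono _ hUn hg)
    have h2 := ih _ hQn P hP (V ⧸ U) (quot ρ U hU) rfl g (hmono _ hQn hg)
    refine eq_one_of_stabilizes hpF hP ρ U g (fun v hv => ?_) (fun v => ?_)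
    · have := congrArg (fun f => ((f ⟨v, hv⟩ : U) : V)) h1
      exact this
    · have := congrArg (fun f => f (Submodule.Quotient.mk v : V ⧸ U)) h2
      exact (Submodule.Quotient.eq U).mp this

/-- The bound when the field contains a primitive `p`-th root of unity. -/
theorem derived_trivial_of_root (hpF : (p : F) ≠ 0) {ζ : F} (hζ : IsPrimitiveRoot ζ p) :
    ∀ (n : ℕ) (P : Type u) [Group P] [Finite P], IsPGroup p P → ∀ (V : Type w) [AddCommGroup V]
      [Module F V] [FiniteDimensional F V] (ρ : Representation F P V), finrank F V = n →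
      ∀ g ∈ derivedSeries P (Nat.log 2 n + 1), ρ g = 1 := by
  refine reduce (B := Nat.log 2) (fun a b h => Nat.log_mono_right h) hpF ?_
  intro P _ _ hP V _ _ _ ρ hinj hirr ih g hg
  classical
  have hcomm1 : (∀ a b : P, a * b = b * a) → ρ g = 1 := by
    intro hc
    have h1 : derivedSeries P 1 = ⊥ := by
      rw [derivedSeries_one, eq_bot_iff, commutator_def, Subgroup.commutator_le]
      intro a _ b _
      rw [Subgroup.mem_bot, commutatorElement_eq_one_iff_mul_comm]
      exact hc a b
    have := derivedSeries_antitone P (Nat.le_add_left 1 _) hg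
    rw [h1, Subgroup.mem_bot] at this
    rw [this, map_one]
  rcases lt_or_ge (finrank F V) 2 with hn | hn
  · -- dimension at most one
    refine hcomm1 fun a b => hinj ?_
    rw [map_mul, map_mul]
    rcases (show finrank F V = 0 ∨ finrank F V = 1 by omega) with h | h
    · haveI := finrank_zero_iff.mp h
      exact LinearMap.ext fun v => Subsingleton.elim _ _
    · obtain ⟨v, hv0, hv⟩ := finrank_eq_one_iff'.mp h
      refine LinearMap.ext fun x => ?_
      obtain ⟨c, rfl⟩ := hv x
      obtain ⟨α, hα⟩ := hv (ρ a v)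
      obtain ⟨β, hβ⟩ := hv (ρ b v)
      simp only [Module.End.mul_apply, map_smul, ← hα, ← hβ, smul_smul]
      rw [mul_comm α β]
  by_cases hcyc : ∀ A : Subgroup P, A.Normal → (∀ a ∈ A, ∀ b ∈ A, a * b = b * a) → IsCyclic A
  · -- metabelian
    obtain ⟨A, ⟨hAn, hAc⟩, hmax⟩ := Set.Finite.exists_maximal
      (s := {A : Subgroup P | A.Normal ∧ ∀ a ∈ A, ∀ b ∈ A, a * b = b * a}) (Set.toFinite _)
      ⟨⊥, inferInstance, fun a ha b hb => by
        rw [Subgroup.mem_bot] at ha hb; rw [ha, hb]⟩
    haveI := hAn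
    have hself : Subgroup.centralizer (A : Set P) ≤ A := by
      by_contra hle
      haveI : Fact p.Prime := hp
      set C := Subgroup.centralizer (A : Set P) with hC
      haveI hCn : C.Normal := by rw [hC]; infer_instance
      -- a central element of the nontrivial image of `C` in `P ⧸ A`
      set q := QuotientGroup.mk' A
      haveI hCq : (C.map q).Normal := hCn.map q (QuotientGroup.mk'_surjective A)
      have hne : C.map q ≠ ⊥ := fun h => hle (by
        rwa [Subgroup.map_eq_bot_iff, QuotientGroup.ker_mk'] at h)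
      obtain ⟨y, hy, hy1⟩ : ∃ y ∈ C.map q ⊓ Subgroup.center (P ⧸ A), y ≠ 1 := by
        have hfix : ∀ (Q : Type u) [Group Q] [Finite Q], IsPGroup p Q → ∀ (N : Subgroup Q) [N.Normal],
            N ≠ ⊥ → ∃ y ∈ N ⊓ Subgroup.center Q, y ≠ 1 := by
          intro Q _ _ hQ N hN hNne
          have hP' : IsPGroup p (ConjAct Q) := hQ
          haveI : Nontrivial N := (Subgroup.nontrivial_iff_ne_bot N).mpr hNne
          obtain ⟨m, hm0, hm⟩ := (hQ.to_subgroup N).nontrivial_iff_card.mp inferInstance
          have h1 : (1 : N) ∈ MulAction.fixedPoints (ConjAct Q) N := fun g => smul_one g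
          obtain ⟨y, hy, hy1⟩ := hP'.exists_fixed_point_of_prime_dvd_card_of_fixed_point (α := N)
            (hm ▸ dvd_pow_self p hm0.ne') h1
          refine ⟨y, ⟨y.2, Subgroup.mem_center_iff.mpr fun g => ?_⟩, fun h => hy1 (Subtype.ext h).symm⟩
          have := congrArg Subtype.val (hy (ConjAct.toConjAct g))
          rw [ConjAct.Subgroup.val_conj_smul, ConjAct.toConjAct_smul] at this
          exact mul_inv_eq_iff_eq_mul.mp this
        exact hfix (P ⧸ A) (hP.to_quotient A) (C.map q) hne
      obtain ⟨⟨x, hxC, rfl⟩, hxz⟩ := hy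
      set A' := A ⊔ Subgroup.zpowers x
      have hxA : x ∉ A := fun h => hy1 ((QuotientGroup.eq_one_iff x).mpr h)
      have hA'n : A'.Normal := by
        refine ⟨fun z hz g => ?_⟩
        have hle' : A' ≤ A'.comap (MulAut.conj g).toMonoidHom := by
          refine sup_le (fun a ha => Subgroup.mem_sup_left (hAn.conj_mem a ha g)) ?_
          rw [Subgroup.zpowers_le]
          show g * x * g⁻¹ ∈ A'
          have h1 : q (g * x * g⁻¹) = q x := by
            rw [map_mul, map_mul, map_inv, Subgroup.mem_center_iff.mp hxz (q g), mul_inv_cancel_right]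
          have h2 : x⁻¹ * (g * x * g⁻¹) ∈ A := QuotientGroup.eq.mp h1.symm
          have h3 := A'.mul_mem (Subgroup.mem_sup_right (Subgroup.mem_zpowers x))
            (Subgroup.mem_sup_left h2)
          rwa [mul_inv_cancel_left] at h3
        exact hle' hz
      have hA'c : ∀ a ∈ A', ∀ b ∈ A', a * b = b * a := by
        have hle1 : A' ≤ Subgroup.centralizer (A' : Set P) := by
          have hxc : ∀ a ∈ A, a * x = x * a := fun a ha => hxC a ha
          have hA1 : A ≤ Subgroup.centralizer (A' : Set P) := by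
            rw [Subgroup.le_centralizer_iff]
            refine sup_le (fun a ha => ?_) (Subgroup.zpowers_le.mpr ?_)
            · exact Subgroup.mem_centralizer_iff.mpr fun b hb => hAc b hb a ha
            · exact Subgroup.mem_centralizer_iff.mpr fun b hb => hxc b hb
          refine sup_le hA1 (Subgroup.zpowers_le.mpr ?_)
          have hA2 : A' ≤ Subgroup.centralizer ({x} : Set P) := by
            refine sup_le (fun a ha => Subgroup.mem_centralizer_singleton_iff.mpr (hxc a ha)) ?_
            exact Subgroup.zpowers_le.mpr (Subgroup.mem_centralizer_singleton_iff.mpr rfl)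
          exact Subgroup.mem_centralizer_iff.mpr fun b hb =>
            Subgroup.mem_centralizer_singleton_iff.mp (hA2 hb)
        exact fun a ha b hb => (Subgroup.mem_centralizer_iff.mp (hle1 ha) b hb).symm
      exact hxA ((hmax (⟨hA'n, hA'c⟩ : A' ∈ {A : Subgroup P | A.Normal ∧ _}) le_sup_left)
        (Subgroup.mem_sup_right (Subgroup.mem_zpowers x)))
    haveI := hcyc A hAn hAc
    have hcomm : commutator P ≤ A := by
      refine le_trans ?_ hself
      rw [commutator_def, Subgroup.commutator_le]
      intro a _ b _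
      rw [Subgroup.mem_centralizer_iff]
      intro c hc
      obtain ⟨γ, hγ⟩ := IsCyclic.exists_generator (α := A)
      have hpow : ∀ x : P, ∃ i : ℤ, ∀ d ∈ A, x * d * x⁻¹ = d ^ i := by
        intro x
        obtain ⟨i, hi⟩ := Subgroup.mem_zpowers_iff.mp (hγ ⟨x * γ * x⁻¹, hAn.conj_mem _ γ.2 x⟩)
        have hi' : (γ : P) ^ i = x * γ * x⁻¹ := by simpa using congrArg Subtype.val hi
        refine ⟨i, fun d hd => ?_⟩
        obtain ⟨j, hj⟩ := Subgroup.mem_zpowers_iff.mp (hγ ⟨d, hd⟩)
        have hj' : (γ : P) ^ j = d := by simpa using congrArg Subtype.val hj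
        rw [← hj', ← conj_zpow, ← hi', ← zpow_mul, ← zpow_mul, mul_comm]
      obtain ⟨i, hi⟩ := hpow a⁻¹
      obtain ⟨j, hj⟩ := hpow b⁻¹
      have hab : a⁻¹ * (b⁻¹ * c * b⁻¹⁻¹) * a⁻¹⁻¹ = b⁻¹ * (a⁻¹ * c * a⁻¹⁻¹) * b⁻¹⁻¹ := by
        rw [hj c hc, hi c hc, hi _ (A.zpow_mem hc j), hj _ (A.zpow_mem hc i), ← zpow_mul, ← zpow_mul,
          mul_comm]
      rw [commutatorElement_def]
      calc c * (a * b * a⁻¹ * b⁻¹) = a * b * (b⁻¹ * (a⁻¹ * c * a⁻¹⁻¹) * b⁻¹⁻¹) * (a⁻¹ * b⁻¹) := by group
        _ = a * b * (a⁻¹ * (b⁻¹ * c * b⁻¹⁻¹) * a⁻¹⁻¹) * (a⁻¹ * b⁻¹) := by rw [hab]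
        _ = _ := by group
    have h2 : derivedSeries P 2 = ⊥ := by
      rw [derivedSeries_succ, derivedSeries_one, eq_bot_iff, Subgroup.commutator_le]
      intro a ha b hb
      rw [Subgroup.mem_bot, commutatorElement_eq_one_iff_mul_comm]
      exact hAc a (hcomm ha) b (hcomm hb)
    have hlog : 2 ≤ Nat.log 2 (finrank F V) + 1 := by
      have := Nat.log_pos (b := 2) (by norm_num) hn
      omega
    have := derivedSeries_antitone P hlog hg
    rw [h2, Subgroup.mem_bot] at this
    rw [this, map_one]
  -- an element of order `p` moved only by scalars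
  push Not at hcyc
  obtain ⟨A, hAn, hAc, hAnc⟩ := hcyc
  haveI := hAn
  let T : Subgroup P :=
    { carrier := {x | x ∈ A ∧ x ^ p = 1 ∧ ∃ c : F, ∀ v, ρ x v = c • v}
      one_mem' := ⟨A.one_mem, one_pow p, 1, fun v => by simp⟩
      mul_mem' := by
        rintro x y ⟨hx, hx1, c, hc⟩ ⟨hy, hy1, d, hd⟩
        refine ⟨A.mul_mem hx hy, ?_, c * d, fun v => ?_⟩
        · rw [Commute.mul_pow (hAc x hx y hy), hx1, hy1, one_mul]
        · rw [map_mul, Module.End.mul_apply, hd, map_smul, hc, smul_smul, mul_comm]
      inv_mem' := by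
        rintro x ⟨hx, hx1, c, hc⟩
        refine ⟨A.inv_mem hx, by rw [inv_pow, hx1, inv_one], c⁻¹, fun v => ?_⟩
        have h1 : c • ρ x⁻¹ v = v := by
          rw [← hc, ← Module.End.mul_apply, ← map_mul, mul_inv_cancel, map_one]; rfl
        by_cases hc0 : c = 0
        · have hv : v = 0 := by rw [← h1, hc0, zero_smul]
          rw [hv, map_zero, smul_zero]
        · conv_rhs => rw [← h1]
          rw [inv_smul_smul₀ hc0] }
  have hT : T.Normal := by
    refine ⟨fun x hx g => ?_⟩
    obtain ⟨hxA, hx1, c, hc⟩ := hx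
    refine ⟨hAn.conj_mem x hxA g, by rw [conj_pow, hx1, mul_one, mul_inv_cancel], c, fun v => ?_⟩
    rw [map_mul, map_mul, Module.End.mul_apply, Module.End.mul_apply, hc, map_smul,
      ← Module.End.mul_apply, ← map_mul, mul_inv_cancel, map_one]
    rfl
  have hntV : ∃ v : V, v ≠ 0 := by
    haveI : Nontrivial V := Module.nontrivial_of_finrank_pos (R := F) (by omega)
    exact exists_ne 0
  obtain ⟨v₀, hv₀⟩ := hntV
  -- the scalar part is small
  have hTcard : Nat.card T ≤ p := by
    choose c hc using fun x : T => x.2.2.2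
    have hroot : ∀ x : T, c x ^ p = 1 := by
      intro x
      have hk : ∀ k : ℕ, ρ ((x : P) ^ k) v₀ = c x ^ k • v₀ := by
        intro k
        induction k with
        | zero => simp
        | succ k ihk => rw [pow_succ', map_mul, Module.End.mul_apply, ihk, map_smul, hc, smul_smul, pow_succ]
      have := hk p
      rw [x.2.2.1, map_one, Module.End.one_apply] at this
      have h2 : (c x ^ p - 1) • v₀ = 0 := by rw [sub_smul, one_smul, ← this, sub_self]
      exact sub_eq_zero.mp ((smul_eq_zero.mp h2).resolve_right hv₀)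
    refine le_trans (Nat.card_le_card_of_injective
      (fun x => (⟨c x, by rw [Polynomial.mem_nthRootsFinset hp.out.pos]; exact hroot x⟩ :
        Polynomial.nthRootsFinset p (1 : F))) ?_) ?_
    · intro x y hxy
      refine Subtype.ext (hinj (LinearMap.ext fun v => ?_))
      simp only [Subtype.mk.injEq] at hxy
      rw [hc, hc, hxy]
    · rw [Nat.card_eq_fintype_card, Fintype.card_coe, hζ.card_nthRootsFinset]
  -- a non-scalar element of order `p` in `A`
  have hΩ : ∃ x ∈ A, x ^ p = 1 ∧ x ∉ T := by
    by_contra hall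
    push Not at hall
    refine hAnc ?_
    letI : CommGroup A := { (inferInstance : Group A) with
      mul_comm := fun a b => Subtype.ext (hAc a a.2 b b.2) }
    refine isCyclic_of_card_roots_le (hP.to_subgroup A) (le_trans (Nat.card_le_card_of_injective
      (fun a : {a : A // a ^ p = 1} =>
        (⟨((a : A) : P), hall _ a.1.2 (congrArg Subtype.val a.2)⟩ : T)) ?_) hTcard)
    intro a b hab
    have h' := congrArg Subtype.val hab
    exact Subtype.ext (Subtype.ext h')
  haveI := hT
  set q := QuotientGroup.mk' T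
  let Ω : Subgroup P :=
    { carrier := {x | x ∈ A ∧ x ^ p = 1}
      one_mem' := ⟨A.one_mem, one_pow p⟩
      mul_mem' := fun {x y} hx hy =>
        ⟨A.mul_mem hx.1 hy.1, by rw [Commute.mul_pow (hAc x hx.1 y hy.1), hx.2, hy.2, one_mul]⟩
      inv_mem' := fun {x} hx => ⟨A.inv_mem hx.1, by rw [inv_pow, hx.2, inv_one]⟩ }
  haveI hΩn : Ω.Normal := ⟨fun x hx g =>
    ⟨hAn.conj_mem x hx.1 g, by rw [conj_pow, hx.2, mul_one, mul_inv_cancel]⟩⟩
  haveI : (Ω.map q).Normal := hΩn.map q (QuotientGroup.mk'_surjective T)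
  obtain ⟨y, hy, hy1⟩ : ∃ y ∈ Ω.map q ⊓ Subgroup.center (P ⧸ T), y ≠ 1 := by
    have hne : Ω.map q ≠ ⊥ := fun h => by
      obtain ⟨x, hxA, hx1, hxT⟩ := hΩ
      rw [Subgroup.map_eq_bot_iff, QuotientGroup.ker_mk'] at h
      exact hxT (h ⟨hxA, hx1⟩)
    have hQ := hP.to_quotient T
    have hP' : IsPGroup p (ConjAct (P ⧸ T)) := hQ
    haveI : Nontrivial (Ω.map q) := (Subgroup.nontrivial_iff_ne_bot _).mpr hne
    obtain ⟨m, hm0, hm⟩ := (hQ.to_subgroup (Ω.map q)).nontrivial_iff_card.mp inferInstance
    have h1 : (1 : Ω.map q) ∈ MulAction.fixedPoints (ConjAct (P ⧸ T)) (Ω.map q) := fun g => smul_one g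
    obtain ⟨y, hy, hy1⟩ := hP'.exists_fixed_point_of_prime_dvd_card_of_fixed_point (α := Ω.map q)
      (hm ▸ dvd_pow_self p hm0.ne') h1
    refine ⟨y, ⟨y.2, Subgroup.mem_center_iff.mpr fun g => ?_⟩, fun h => hy1 (Subtype.ext h).symm⟩
    have := congrArg Subtype.val (hy (ConjAct.toConjAct g))
    rw [ConjAct.Subgroup.val_conj_smul, ConjAct.toConjAct_smul] at this
    exact mul_inv_eq_iff_eq_mul.mp this
  obtain ⟨⟨x, ⟨hxA, hxp⟩, rfl⟩, hxz⟩ := hy
  have hxT : x ∉ T := fun h => hy1 ((QuotientGroup.eq_one_iff x).mpr h)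
  have hconj : ∀ g : P, x⁻¹ * (g * x * g⁻¹) ∈ T := by
    intro g
    apply QuotientGroup.eq.mp
    rw [← QuotientGroup.mk'_apply, ← QuotientGroup.mk'_apply, map_mul, map_mul, map_inv,
      Subgroup.mem_center_iff.mp hxz (q g), mul_inv_cancel_right]
  have hTc : ∀ t ∈ T, ∀ h : P, h * t = t * h := by
    rintro t ⟨-, -, c, hc⟩ h
    refine hinj (LinearMap.ext fun v => ?_)
    rw [map_mul, map_mul, Module.End.mul_apply, Module.End.mul_apply, hc, hc, map_smul]
  -- the centraliser of `x`
  set M := Subgroup.centralizer ({x} : Set P) with hMdef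
  have hM : commutator P ≤ M := by
    rw [commutator_def, Subgroup.commutator_le]
    intro a _ b _
    obtain ⟨α, hα, hαe⟩ : ∃ α ∈ T, a * x * a⁻¹ = x * α := ⟨_, hconj a, by group⟩
    obtain ⟨β, hβ, hβe⟩ : ∃ β ∈ T, b * x * b⁻¹ = x * β := ⟨_, hconj b, by group⟩
    have key : ∀ (a : P) (α : P), α ∈ T → a * x * a⁻¹ = x * α → a⁻¹ * x * a = x * α⁻¹ := by
      intro a α hα he
      have h1 : a⁻¹ * (x * α) * a = x := by rw [← he]; group
      have h2 : a⁻¹ * x * a * α = x := by
        calc a⁻¹ * x * a * α = a⁻¹ * x * (a * α) := by group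
          _ = a⁻¹ * (x * α) * a := by rw [hTc α hα a]; group
          _ = x := h1
      exact eq_mul_inv_of_mul_eq h2
    rw [hMdef, Subgroup.mem_centralizer_singleton_iff, commutatorElement_def]
    have h : a * b * a⁻¹ * b⁻¹ * x * (a * b * a⁻¹ * b⁻¹)⁻¹ = x := by
      calc a * b * a⁻¹ * b⁻¹ * x * (a * b * a⁻¹ * b⁻¹)⁻¹
          = a * (b * (a⁻¹ * (b⁻¹ * x * b) * a) * b⁻¹) * a⁻¹ := by group
        _ = a * (b * (a⁻¹ * (x * β⁻¹) * a) * b⁻¹) * a⁻¹ := by rw [key b β hβ hβe]
        _ = a * (b * (a⁻¹ * x * a * β⁻¹) * b⁻¹) * a⁻¹ := by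
            rw [show a⁻¹ * (x * β⁻¹) * a = a⁻¹ * x * (β⁻¹ * a) by group,
              ← hTc β⁻¹ (T.inv_mem hβ) a]; group
        _ = a * (b * (x * α⁻¹ * β⁻¹) * b⁻¹) * a⁻¹ := by rw [key a α hα hαe]
        _ = a * (b * x * b⁻¹ * (b * (α⁻¹ * β⁻¹) * b⁻¹)) * a⁻¹ := by group
        _ = a * (x * β * (α⁻¹ * β⁻¹)) * a⁻¹ := by
            rw [hβe, hTc _ (T.mul_mem (T.inv_mem hα) (T.inv_mem hβ)) b, mul_inv_cancel_right]
        _ = a * (x * α⁻¹) * a⁻¹ := by
            rw [hTc _ (T.inv_mem hβ) α⁻¹]; group
        _ = a * x * a⁻¹ * (a * α⁻¹ * a⁻¹) := by group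
        _ = x := by rw [hαe, hTc _ (T.inv_mem hα) a]; group
    exact mul_inv_eq_iff_eq_mul.mp h
  -- eigenspaces
  let E : F → Submodule F V := fun c => LinearMap.ker (ρ x - c • LinearMap.id)
  have hE : ∀ c v, v ∈ E c ↔ ρ x v = c • v := fun c v => by
    simp [E, LinearMap.mem_ker, sub_eq_zero]
  -- each eigenspace is small
  have hhalf : ∀ c, 2 * finrank F (E c) ≤ finrank F V := by
    intro c
    by_cases hc0 : E c = ⊥
    · rw [hc0, finrank_bot]; omega
    obtain ⟨g, hg'⟩ : ∃ g : P, g * x * g⁻¹ ≠ x := by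
      by_contra hall
      push Not at hall
      have hinv : ∀ g, ∀ v ∈ E c, ρ g v ∈ E c := by
        intro g v hv
        rw [hE] at hv ⊢
        rw [← Module.End.mul_apply, ← map_mul, ← mul_inv_eq_iff_eq_mul.mp (hall g), map_mul,
          Module.End.mul_apply, hv, map_smul]
      rcases hirr _ hinv with h | h
      · exact hc0 h
      · exact hxT ⟨hxA, hxp, c, fun v => (hE c v).mp (h ▸ Submodule.mem_top)⟩
    obtain ⟨-, -, d, hd⟩ := hconj g⁻¹
    have hd1 : d ≠ 1 := by
      intro h1
      apply hg'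
      have ht : x⁻¹ * (g⁻¹ * x * g⁻¹⁻¹) = 1 := hinj (LinearMap.ext fun v => by
        rw [hd, h1, one_smul, map_one]; rfl)
      rw [inv_mul_eq_one] at ht
      rw [inv_inv] at ht
      conv_lhs => rw [ht]
      group
    let φ : V ≃ₗ[F] V := LinearEquiv.ofLinear (ρ g) (ρ g⁻¹)
      (by rw [← Module.End.mul_eq_comp, ← map_mul, mul_inv_cancel, map_one]; rfl)
      (by rw [← Module.End.mul_eq_comp, ← map_mul, inv_mul_cancel, map_one]; rfl)
    have hdisj : Disjoint (E c) ((E c).map φ.toLinearMap) := by
      rw [Submodule.disjoint_def]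
      rintro w hw ⟨v, hv, rfl⟩
      by_contra hne
      apply hd1
      rw [hE] at hw
      change ρ x (ρ g v) = c • ρ g v at hw
      have hx' : x * g = g * (x * (x⁻¹ * (g⁻¹ * x * g⁻¹⁻¹))) := by group
      rw [← Module.End.mul_apply, ← map_mul, hx', map_mul, map_mul, Module.End.mul_apply,
        Module.End.mul_apply, hd, map_smul, (hE c v).mp hv, smul_smul, map_smul] at hw
      have h2 : (d * c - c) • ρ g v = 0 := by rw [sub_smul, hw, sub_self]
      rcases smul_eq_zero.mp h2 with h | h
      · have hc' : c ≠ 0 := by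
          intro h0
          have := (hE c v).mp hv
          rw [h0, zero_smul] at this
          apply hne
          have h3 := congrArg (ρ x⁻¹) this
          rw [← Module.End.mul_apply, ← map_mul, inv_mul_cancel, map_one, map_zero,
            Module.End.one_apply] at h3
          rw [h3, map_zero]
        exact mul_right_cancel₀ hc' ((sub_eq_zero.mp h).trans (one_mul c).symm)
      · exact absurd h hne
    have h1 := Submodule.finrank_sup_add_finrank_inf_eq (E c) ((E c).map φ.toLinearMap)
    rw [hdisj.eq_bot, finrank_bot, LinearEquiv.finrank_map_eq] at h1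
    have h2 := Submodule.finrank_le (E c ⊔ (E c).map φ.toLinearMap)
    omega
  -- conclusion
  obtain ⟨m, hm, hmg⟩ := derivedSeries_succ_le M hM (Nat.log 2 (finrank F V)) hg
  have hfix : ∀ c, ∀ v ∈ E c, ρ g v = v := by
    intro c v hv
    have hinv : ∀ (a : M), ∀ v ∈ E c, ρ (a : P) v ∈ E c := by
      intro a v hv
      rw [hE] at hv ⊢
      rw [← Module.End.mul_apply, ← map_mul, ← Subgroup.mem_centralizer_singleton_iff.mp a.2,
        map_mul, Module.End.mul_apply, hv, map_smul]
    have hlt : finrank F (E c) < finrank F V := by have := hhalf c; omega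
    have hle : Nat.log 2 (finrank F (E c)) + 1 ≤ Nat.log 2 (finrank F V) := by
      rcases Nat.eq_zero_or_pos (finrank F (E c)) with h0 | h0
      · rw [h0, Nat.log_zero_right, zero_add]
        exact Nat.log_pos (by norm_num) hn
      · rw [← Nat.log_mul_base (by norm_num : 1 < 2) h0.ne']
        exact Nat.log_mono_right (by rw [mul_comm]; exact hhalf c)
    have := ih M (hP.to_subgroup M) (E c)
      (restrict (ρ.comp M.subtype) (E c) hinv) hlt m (derivedSeries_antitone M hle hm)
    have h3 := congrArg (fun f => ((f ⟨v, hv⟩ : E c) : V)) this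
    rw [← hmg]
    exact h3
  let W : Submodule F V := ⨆ c, E c
  have hWfix : ∀ v ∈ W, ρ g v = v := by
    intro v hv
    have : W ≤ LinearMap.ker (ρ g - LinearMap.id) := iSup_le fun c w hw => by
      rw [LinearMap.mem_ker, LinearMap.sub_apply, hfix c w hw]; simp
    simpa [sub_eq_zero] using this hv
  have hWinv : ∀ h, ∀ v ∈ W, ρ h v ∈ W := by
    intro h
    have : W ≤ W.comap (ρ h) := iSup_le fun c w hw => by
      obtain ⟨-, -, d, hd⟩ := hconj h⁻¹
      refine Submodule.mem_iSup_of_mem (d * c) ?_
      rw [hE]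
      have hx' : x * h = h * (x * (x⁻¹ * (h⁻¹ * x * h⁻¹⁻¹))) := by group
      rw [← Module.End.mul_apply, ← map_mul, hx', map_mul, map_mul, Module.End.mul_apply,
        Module.End.mul_apply, hd, map_smul, (hE c w).mp hw, smul_smul, map_smul]
    exact fun v hv => this hv
  have hWne : W ≠ ⊥ := by
    let w : ℕ → V := fun j => ∑ i ∈ Finset.range p, (ζ ^ j)⁻¹ ^ i • ρ (x ^ i) v₀
    have hw : ∀ j, w j ∈ E (ζ ^ j) := by
      intro j
      rw [hE]
      have hc : ζ ^ j ≠ 0 := pow_ne_zero j (hζ.ne_zero hp.out.ne_zero)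
      let f : ℕ → V := fun i => (ζ ^ j)⁻¹ ^ i • ρ (x ^ i) v₀
      have hper : f p = f 0 := by
        simp only [f]
        rw [hxp, pow_zero, pow_zero, map_one, inv_pow, ← pow_mul, mul_comm, pow_mul, hζ.pow_eq_one,
          one_pow, inv_one]
      have hstep : ∀ i, ρ x (f i) = ζ ^ j • f (i + 1) := by
        intro i
        simp only [f]
        rw [map_smul, ← Module.End.mul_apply, ← map_mul, ← pow_succ', smul_smul,
          pow_succ' (ζ ^ j)⁻¹, ← mul_assoc, mul_inv_cancel₀ hc, one_mul]
      have hshift : ∑ i ∈ Finset.range p, f (i + 1) = ∑ i ∈ Finset.range p, f i := by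
        have h1 := Finset.sum_range_succ' f p
        have h2 := Finset.sum_range_succ f p
        rw [h2, hper] at h1
        exact (add_right_cancel h1).symm
      show ρ x (∑ i ∈ Finset.range p, f i) = ζ ^ j • ∑ i ∈ Finset.range p, f i
      rw [map_sum, Finset.sum_congr rfl fun i _ => hstep i, ← Finset.smul_sum, hshift]
    have hsum : ∑ j ∈ Finset.range p, w j = (p : F) • v₀ := by
      simp only [w]
      rw [Finset.sum_comm, Finset.sum_eq_single 0]
      · simp [Finset.sum_const, Nat.cast_smul_eq_nsmul]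
      · intro i hi hi0
        rw [← Finset.sum_smul]
        have hr : IsPrimitiveRoot (ζ⁻¹ ^ i) p := by
          refine hζ.inv.pow_of_coprime i ?_
          refine ((hp.out.coprime_iff_not_dvd).mpr fun hd => ?_).symm
          have := Nat.le_of_dvd (Nat.pos_of_ne_zero hi0) hd
          exact absurd (Finset.mem_range.mp hi) (by omega)
        rw [Finset.sum_congr rfl fun j _ => show ((ζ ^ j)⁻¹ ^ i : F) = (ζ⁻¹ ^ i) ^ j by
          rw [inv_pow, inv_pow, inv_pow, ← pow_mul, ← pow_mul, mul_comm], hr.geom_sum_eq_zero hp.out.one_lt,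
          zero_smul]
      · intro h0; exact absurd (Finset.mem_range.mpr hp.out.pos) h0
    intro hbot
    have hz : ∀ j, w j = 0 := fun j => by
      have := Submodule.mem_iSup_of_mem (ζ ^ j) (hw j)
      change w j ∈ W at this
      rwa [hbot, Submodule.mem_bot] at this
    rw [Finset.sum_congr rfl fun j _ => hz j, Finset.sum_const_zero] at hsum
    exact hv₀ ((smul_eq_zero.mp hsum.symm).resolve_left hpF)
  have hWtop : W = ⊤ := (hirr W hWinv).resolve_left hWne
  refine LinearMap.ext fun v => ?_
  exact hWfix v (hWtop ▸ Submodule.mem_top)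

end Cfsg.Agent.Lib.DerivedLength
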