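import Mathlib

/-!
Quadratic elements in characteristic three: the ring identities behind the bound of the `p`-length
by the derived length of a Sylow subgroup.
-/

set_option autoImplicit false

namespace Cfsg.Agent.Lib.DerivedLength

variable {R : Type*} [Ring R] [CharP R 3]

theorem three_nsmul_eq_zero (r : R) : r + r + r = 0 := by
  have h : ((3 : ℕ) : R) = 0 := CharP.cast_eq_zero R 3
  have : ((3 : ℕ) : R) * r = r + r + r := by
    push_cast
    noncomm_ring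
  rw [← this, h, zero_mul]

theorem eq_zero_of_two_nsmul {r : R} (h : r + r = 0) : r = 0 := by
  have := three_nsmul_eq_zero r
  rwa [h, zero_add] at this

/-- Large powers of `3` fixing the `k`-th roots of unity. -/
theorem exists_pow_three {k : ℕ} (hk : k.Coprime 3) (hk0 : k ≠ 0) :
    ∃ j : ℕ, 2 ≤ 3 ^ j ∧ ∀ a : R, a ^ k = 1 → a ^ 3 ^ j = a := by
  refine ⟨Nat.totient k, ?_, fun a ha => ?_⟩
  · have h1 : 0 < Nat.totient k := Nat.totient_pos.2 (Nat.pos_of_ne_zero hk0)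
    calc 2 ≤ 3 ^ 1 := by norm_num
      _ ≤ 3 ^ Nat.totient k := Nat.pow_le_pow_right (by norm_num) h1
  · have h := Nat.ModEq.pow_totient (x := 3) (n := k) hk.symm
    unfold Nat.ModEq at h
    rcases eq_or_ne k 1 with rfl | hk1
    · rw [pow_one] at ha
      simp [ha]
    rw [Nat.mod_eq_of_lt (show 1 < k by omega)] at h
    conv_lhs => rw [← Nat.mod_add_div (3 ^ Nat.totient k) k, h, pow_add, pow_one, pow_mul, ha,
      one_pow, mul_one]

theorem sub_eq_zero_of_nilpotent {a b : R} {k : ℕ} (hk : k.Coprime 3) (hk0 : k ≠ 0)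
    (ha : a ^ k = 1) (hb : b ^ k = 1) (hab : Commute a b) (hn : (a - b) * (a - b) = 0) : a = b := by
  obtain ⟨j, hj, hfix⟩ := exists_pow_three (R := R) hk hk0
  have h := sub_pow_char_pow_of_commute (p := 3) (n := j) hab
  rw [hfix a ha, hfix b hb] at h
  rw [← sub_eq_zero, ← h]
  exact pow_eq_zero_of_le hj (by rw [sq]; exact hn)

/-- The second difference of three commuting roots of unity is not nilpotent unless zero. -/
theorem second_diff_eq_zero {a b c : R} {k : ℕ} (hk : k.Coprime 3) (hk0 : k ≠ 0)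
    (ha : a ^ k = 1) (hb : b ^ k = 1) (hc : c ^ k = 1) (hab : Commute a b) (hac : Commute a c)
    (hbc : Commute b c) (hn : (c - b - (b - a)) * (c - b - (b - a)) = 0) : c - b - (b - a) = 0 := by
  obtain ⟨j, hj, hfix⟩ := exists_pow_three (R := R) hk hk0
  have h1 := sub_pow_char_pow_of_commute (p := 3) (n := j) hbc.symm
  rw [hfix b hb, hfix c hc] at h1
  have h2 := sub_pow_char_pow_of_commute (p := 3) (n := j) hab.symm
  rw [hfix a ha, hfix b hb] at h2
  have hcomm : Commute (c - b) (b - a) :=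
    ((hbc.symm.sub_right hac.symm).sub_left ((Commute.refl b).sub_right hab.symm))
  have h3 := sub_pow_char_pow_of_commute (p := 3) (n := j) hcomm
  rw [h1, h2] at h3
  rw [← h3]
  exact pow_eq_zero_of_le hj (by rw [sq]; exact hn)

variable {L : Type*} [Group L]

theorem map_inv_eq (ρ : L →* R) {x : L} {N : R} (hN : ρ x = 1 + N) (hN2 : N * N = 0) :
    ρ x⁻¹ = 1 - N := by
  have h1 : ρ x⁻¹ * ρ x = 1 := by rw [← map_mul, inv_mul_cancel, map_one]
  have h2 : ρ x * (1 - N) = 1 := by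
    rw [hN]
    calc (1 + N) * (1 - N) = 1 - N * N := by noncomm_ring
      _ = 1 := by rw [hN2, sub_zero]
  calc ρ x⁻¹ = ρ x⁻¹ * (ρ x * (1 - N)) := by rw [h2, mul_one]
    _ = 1 - N := by rw [← mul_assoc, h1, one_mul]

/-- A quadratic element centralises the abelian subgroups of order prime to `3` it normalises. -/
theorem quadratic_centralizes (ρ : L →* R) {x g : L} {N : R} (hN : ρ x = 1 + N) (hN2 : N * N = 0)
    {k : ℕ} (hk : k.Coprime 3) (hk0 : k ≠ 0) (hg : g ^ k = 1)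
    (h01 : Commute (ρ g) (ρ (x * g * x⁻¹)))
    (h02 : Commute (ρ g) (ρ (x * (x * g * x⁻¹) * x⁻¹)))
    (h12 : Commute (ρ (x * g * x⁻¹)) (ρ (x * (x * g * x⁻¹) * x⁻¹))) :
    ρ (x * g * x⁻¹) = ρ g := by
  have hpow : ∀ u : L, u ^ k = 1 → ρ u ^ k = 1 := fun u hu => by rw [← map_pow, hu, map_one]
  have hc : ∀ u : L, u ^ k = 1 → (x * u * x⁻¹) ^ k = 1 := fun u hu => by
    rw [conj_pow, hu, mul_one, mul_inv_cancel]
  have hexp : ∀ u : L, ρ (x * u * x⁻¹) = ρ u + N * ρ u - ρ u * N - N * ρ u * N := fun u => by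
    rw [map_mul, map_mul, hN, map_inv_eq ρ hN hN2]
    noncomm_ring
  -- the middle term vanishes
  have hNuN : ∀ u : L, u ^ k = 1 → Commute (ρ u) (ρ (x * u * x⁻¹)) →
      Commute (ρ u) (ρ (x * (x * u * x⁻¹) * x⁻¹)) →
      Commute (ρ (x * u * x⁻¹)) (ρ (x * (x * u * x⁻¹) * x⁻¹)) → N * ρ u * N = 0 := by
    intro u hu c1 c2 c3
    have hNN : ∀ r : R, N * (N * r) = 0 := fun r => by rw [← mul_assoc, hN2, zero_mul]
    have e : ρ (x * (x * u * x⁻¹) * x⁻¹) - ρ (x * u * x⁻¹) - (ρ (x * u * x⁻¹) - ρ u) =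
        -(N * ρ u * N + N * ρ u * N) := by
      rw [hexp (x * u * x⁻¹), hexp u]
      simp only [mul_add, add_mul, mul_sub, sub_mul, mul_assoc, hN2, hNN, mul_zero]
      abel
    have h0 := second_diff_eq_zero hk hk0 (hpow u hu) (hpow _ (hc u hu)) (hpow _ (hc _ (hc u hu)))
      c1 c2 c3 (by
        rw [e]
        simp only [neg_mul_neg, mul_add, add_mul, mul_assoc, hNN, mul_zero, add_zero])
    rw [e, neg_eq_zero] at h0
    exact eq_zero_of_two_nsmul h0
  have h1 := hNuN g hg h01 h02 h12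
  have hsq : ∀ u : L, x * u ^ 2 * x⁻¹ = (x * u * x⁻¹) ^ 2 := fun u => by rw [conj_pow]
  have h2 := hNuN (g ^ 2) (by rw [← pow_mul, mul_comm, pow_mul, hg, one_pow]) (by
      rw [hsq, map_pow, map_pow]; exact h01.pow_pow 2 2) (by
      rw [hsq, hsq, map_pow, map_pow]; exact h02.pow_pow 2 2) (by
      rw [hsq, hsq, map_pow, map_pow]; exact h12.pow_pow 2 2)
  rw [map_pow] at h2
  refine sub_eq_zero_of_nilpotent hk hk0 (hpow _ (hc g hg)) (hpow g hg) h01.symm ?_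
  rw [hexp, h1, sub_zero]
  calc (ρ g + N * ρ g - ρ g * N - ρ g) * (ρ g + N * ρ g - ρ g * N - ρ g)
      = (N * ρ g * N) * ρ g + ρ g * (N * ρ g * N) - N * ρ g ^ 2 * N - ρ g * (N * N) * ρ g := by
        noncomm_ring
    _ = 0 := by rw [h1, h2, hN2]; simp

/-- If `N` annihilates `(b - 1) ^ 2`, then it annihilates `b z b⁻¹ - z` for commuting conjugates. -/
theorem annihilator_centralizes (ρ : L →* R) {b z : L} {N : R}
    (hann : N * ((ρ b - 1) * (ρ b - 1)) = 0) {k : ℕ} (hk : k.Coprime 3) (hk0 : k ≠ 0)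
    (hz : z ^ k = 1) (h01 : Commute (ρ z) (ρ (b * z * b⁻¹)))
    (h02 : Commute (ρ z) (ρ (b * (b * z * b⁻¹) * b⁻¹)))
    (h12 : Commute (ρ (b * z * b⁻¹)) (ρ (b * (b * z * b⁻¹) * b⁻¹)))
    (hN0 : Commute N (ρ z)) (hN1 : Commute N (ρ (b * z * b⁻¹)))
    (hN2 : Commute N (ρ (b * (b * z * b⁻¹) * b⁻¹))) :
    N * (ρ (b * z * b⁻¹) - ρ z) = 0 := by
  set B := ρ b with hB
  set G₀ := ρ z with hG₀
  set G₁ := ρ (b * z * b⁻¹) with hG₁
  set G₂ := ρ (b * (b * z * b⁻¹) * b⁻¹) with hG₂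
  have e1 : B * G₀ = G₁ * B := by
    rw [hB, hG₀, hG₁, ← map_mul, ← map_mul, inv_mul_cancel_right]
  have e2 : B * G₁ = G₂ * B := by
    rw [hB, hG₁, hG₂, ← map_mul, ← map_mul, inv_mul_cancel_right]
  have E0 : N * (B * B - (B + B) + 1) = 0 := by
    rw [← hann]
    noncomm_ring
  have Ea : N * (G₂ * B * B - (G₁ * B + G₁ * B) + G₀) = 0 := by
    calc N * (G₂ * B * B - (G₁ * B + G₁ * B) + G₀)
        = N * ((B * B - (B + B) + 1) * G₀) := by
          congr 1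
          simp only [sub_mul, add_mul, one_mul, mul_assoc, e1]
          rw [← mul_assoc B G₁, e2, mul_assoc]
      _ = 0 := by rw [← mul_assoc, E0, zero_mul]
  have Eb : N * (G₂ * B * B - (G₂ * B + G₂ * B) + G₂) = 0 := by
    calc N * (G₂ * B * B - (G₂ * B + G₂ * B) + G₂) = G₂ * (N * (B * B - (B + B) + 1)) := by
          rw [← mul_assoc G₂, ← hN2.eq]
          noncomm_ring
      _ = 0 := by rw [E0, mul_zero]
  have E1 : N * ((G₂ - G₁) * B + (G₂ - G₁) * B + (G₀ - G₂)) = 0 := by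
    calc N * ((G₂ - G₁) * B + (G₂ - G₁) * B + (G₀ - G₂))
        = N * (G₂ * B * B - (G₁ * B + G₁ * B) + G₀) - N * (G₂ * B * B - (G₂ * B + G₂ * B) + G₂) := by
          noncomm_ring
      _ = 0 := by rw [Ea, Eb, sub_zero]
  -- multiply on the right and on the left by `G₀`
  have R0 : N * ((G₂ - G₁) * G₁ * B + (G₂ - G₁) * G₁ * B + (G₀ - G₂) * G₀) = 0 := by
    calc N * ((G₂ - G₁) * G₁ * B + (G₂ - G₁) * G₁ * B + (G₀ - G₂) * G₀)
        = N * ((G₂ - G₁) * B + (G₂ - G₁) * B + (G₀ - G₂)) * G₀ := by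
          simp only [mul_add, add_mul, mul_assoc, e1]
      _ = 0 := by rw [E1, zero_mul]
  have L0 : N * ((G₂ - G₁) * G₀ * B + (G₂ - G₁) * G₀ * B + (G₀ - G₂) * G₀) = 0 := by
    have c21 : (G₂ - G₁) * G₀ = G₀ * (G₂ - G₁) := (h02.symm.sub_left h01.symm).eq
    have c02 : (G₀ - G₂) * G₀ = G₀ * (G₀ - G₂) := ((Commute.refl G₀).sub_left h02.symm).eq
    calc N * ((G₂ - G₁) * G₀ * B + (G₂ - G₁) * G₀ * B + (G₀ - G₂) * G₀)
        = N * (G₀ * ((G₂ - G₁) * B + (G₂ - G₁) * B + (G₀ - G₂))) := by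
          rw [c21, c02]
          noncomm_ring
      _ = G₀ * (N * ((G₂ - G₁) * B + (G₂ - G₁) * B + (G₀ - G₂))) := by
          rw [← mul_assoc N, hN0.eq, mul_assoc]
      _ = 0 := by rw [E1, mul_zero]
  have hBi : B * ρ b⁻¹ = 1 := by rw [hB, ← map_mul, mul_inv_cancel, map_one]
  have U1 : N * ((G₂ - G₁) * (G₁ - G₀)) = 0 := by
    have h : N * ((G₂ - G₁) * (G₁ - G₀)) * B + N * ((G₂ - G₁) * (G₁ - G₀)) * B = 0 := by
      rw [← sub_self (0 : R)]
      nth_rewrite 1 [← R0]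
      rw [← L0]
      noncomm_ring
    have h2 := congrArg (fun r => r * ρ b⁻¹) (eq_zero_of_two_nsmul h)
    simpa [mul_assoc, hBi] using h2
  -- multiply on the left by `G₁`
  have L1 : N * ((G₂ - G₁) * G₁ * B + (G₂ - G₁) * G₁ * B + (G₀ - G₂) * G₁) = 0 := by
    have c21 : (G₂ - G₁) * G₁ = G₁ * (G₂ - G₁) := (h12.symm.sub_left (Commute.refl G₁)).eq
    have c02 : (G₀ - G₂) * G₁ = G₁ * (G₀ - G₂) := (h01.sub_left h12.symm).eq
    calc N * ((G₂ - G₁) * G₁ * B + (G₂ - G₁) * G₁ * B + (G₀ - G₂) * G₁)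
        = N * (G₁ * ((G₂ - G₁) * B + (G₂ - G₁) * B + (G₀ - G₂))) := by
          rw [c21, c02]
          noncomm_ring
      _ = G₁ * (N * ((G₂ - G₁) * B + (G₂ - G₁) * B + (G₀ - G₂))) := by
          rw [← mul_assoc N, hN1.eq, mul_assoc]
      _ = 0 := by rw [E1, mul_zero]
  have Usq : N * ((G₁ - G₀) * (G₁ - G₀)) = 0 := by
    calc N * ((G₁ - G₀) * (G₁ - G₀))
        = N * ((G₂ - G₁) * G₁ * B + (G₂ - G₁) * G₁ * B + (G₀ - G₂) * G₀)
          - N * ((G₂ - G₁) * G₁ * B + (G₂ - G₁) * G₁ * B + (G₀ - G₂) * G₁)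
          - N * ((G₂ - G₁) * (G₁ - G₀)) := by noncomm_ring
      _ = 0 := by rw [R0, L1, U1]; simp
  obtain ⟨j, hj, hfix⟩ := exists_pow_three (R := R) hk hk0
  have h := sub_pow_char_pow_of_commute (p := 3) (n := j) h01.symm
  rw [hfix G₁ (by rw [hG₁, ← map_pow, conj_pow, hz, mul_one, mul_inv_cancel, map_one]),
    hfix G₀ (by rw [hG₀, ← map_pow, hz, map_one])] at h
  rw [← h, show 3 ^ j = 2 + (3 ^ j - 2) by omega, pow_add, sq, ← mul_assoc, Usq, zero_mul]

end Cfsg.Agent.Lib.DerivedLength
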