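import Mathlib
import Cfsg.Agent.Lib.DerivedLength.Quadratic

/-!
A `2`-group with a `3`-group of operators acting in characteristic three: a central element of the
derived subgroup of the `3`-group which is quadratic and annihilates the squares of the
augmentation acts trivially on the `2`-group.
-/

set_option autoImplicit false

namespace Cfsg.Agent.Lib.DerivedLength

open Subgroup
open scoped commutatorElement

variable {G : Type*} [Group G]

/-- The group theoretic part of the configuration. -/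
structure Config (Q B : Subgroup G) (x : G) : Prop where
  twoGroup : IsPGroup 2 Q
  threeGroup : IsPGroup 3 B
  norm : B ≤ normalizer (Q : Set G)
  gen : Q ⊔ B = ⊤
  mem : x ∈ B
  central : ∀ b ∈ B, b * x = x * b
  cube : x ^ 3 = 1
  derived : x ∈ ⁅B, B⁆
  fixed_central : ∀ g ∈ Q, x * g = g * x → ∀ h ∈ Q, g * h = h * g
  comm_fixed : ∀ g ∈ Q, ∀ h ∈ Q, x * ⁅g, h⁆ = ⁅g, h⁆ * x
  sq_fixed : ∀ g ∈ Q, x * g ^ 2 = g ^ 2 * x

variable {Q B : Subgroup G} {x : G}

theorem Config.conj_mem (c : Config Q B x) {b g : G} (hb : b ∈ B) (hg : g ∈ Q) :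
    b * g * b⁻¹ ∈ Q := (mem_normalizer_iff.1 (c.norm hb) g).1 hg

/-- The product of an element and its two conjugates under `x` is fixed by `x`. -/
theorem Config.norm_fixed (c : Config Q B x) {g : G} (hg : g ∈ Q) :
    x * (g * (x * g * x⁻¹) * (x * (x * g * x⁻¹) * x⁻¹)) =
      g * (x * g * x⁻¹) * (x * (x * g * x⁻¹) * x⁻¹) * x := by
  have h1 := c.conj_mem c.mem hg
  have h2 := c.conj_mem c.mem h1
  set t := g * (x * g * x⁻¹) * (x * (x * g * x⁻¹) * x⁻¹) with ht
  have htQ : t ∈ Q := mul_mem (mul_mem hg h1) h2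
  have hx3 : x * (x * x) = 1 := by rw [← mul_assoc]; simpa [pow_succ, mul_assoc] using c.cube
  have hc : x * ⁅t⁻¹, g⁻¹⁆ * x⁻¹ = ⁅t⁻¹, g⁻¹⁆ := by
    rw [c.comm_fixed _ (inv_mem htQ) _ (inv_mem hg), mul_inv_cancel_right]
  have hσ3 : ∀ u : G, x * (x * (x * u * x⁻¹) * x⁻¹) * x⁻¹ = u := fun u => by
    calc x * (x * (x * u * x⁻¹) * x⁻¹) * x⁻¹ = (x * (x * x)) * u * (x * (x * x))⁻¹ := by group
      _ = u := by rw [hx3, one_mul, inv_one, mul_one]
  have hσt : x * t * x⁻¹ = t * ⁅t⁻¹, g⁻¹⁆ := by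
    calc x * t * x⁻¹ = (x * g * x⁻¹) * (x * (x * g * x⁻¹) * x⁻¹) *
          (x * (x * (x * g * x⁻¹) * x⁻¹) * x⁻¹) := by rw [ht]; group
      _ = (x * g * x⁻¹) * (x * (x * g * x⁻¹) * x⁻¹) * g := by rw [hσ3]
      _ = t * ⁅t⁻¹, g⁻¹⁆ := by rw [ht, commutatorElement_def]; group
  set e := ⁅t⁻¹, g⁻¹⁆
  have he3 : e ^ 3 = 1 := by
    have h3 : t = t * (e * (e * e)) := by
      calc t = x * (x * (x * t * x⁻¹) * x⁻¹) * x⁻¹ := (hσ3 t).symm
        _ = x * (x * (t * e) * x⁻¹) * x⁻¹ := by rw [hσt]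
        _ = x * ((x * t * x⁻¹) * (x * e * x⁻¹)) * x⁻¹ := by group
        _ = x * (t * e * e) * x⁻¹ := by rw [hc, hσt]
        _ = (x * t * x⁻¹) * (x * e * x⁻¹) * (x * e * x⁻¹) := by group
        _ = t * (e * (e * e)) := by rw [hc, hσt]; group
    rw [left_eq_mul] at h3
    simpa [pow_succ, mul_assoc] using h3
  have heQ : e ∈ Q := by
    have := mul_mem (inv_mem htQ) (c.conj_mem c.mem htQ)
    rwa [hσt, inv_mul_cancel_left] at this
  obtain ⟨k, hk⟩ := c.twoGroup ⟨e, heQ⟩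
  have he2 : e ^ 2 ^ k = 1 := congrArg Subtype.val hk
  have he : e = 1 := by
    have h := pow_gcd_eq_one.2 ⟨he2, he3⟩
    rwa [Nat.Coprime.pow_left k (by decide : Nat.Coprime 2 3), pow_one] at h
  rw [he, mul_one] at hσt
  exact mul_inv_eq_iff_eq_mul.1 hσt

variable [Finite G] {F : Type*} [Field F] [CharP F 3] {V : Type*} [AddCommGroup V] [Module F V]

/-- The irreducible case. -/
theorem commute_of_irreducible (c : Config Q B x) (ρ : G →* Module.End F V)
    (hquad : (ρ x - 1) * (ρ x - 1) = 0)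
    (hann : ∀ b ∈ B, (ρ x - 1) * ((ρ b - 1) * (ρ b - 1)) = 0)
    (hirr : ∀ W : Submodule F V, (∀ g, ∀ v ∈ W, ρ g v ∈ W) → W = ⊥ ∨ W = ⊤) :
    ∀ g ∈ Q, ρ (x * g * x⁻¹) = ρ g := by
  by_contra hcon
  push Not at hcon
  obtain ⟨g₀, hg₀Q, hg₀⟩ := hcon
  rcases subsingleton_or_nontrivial V with hV | hV
  · exact hg₀ (LinearMap.ext fun v => Subsingleton.elim _ _)
  have : CharP (Module.End F V) 3 :=
    charP_of_injective_algebraMap (algebraMap F (Module.End F V)).injective 3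
  set N := ρ x - 1 with hN
  have hρx : ρ x = 1 + N := by rw [hN]; abel
  set k := Nat.card Q with hk
  have hk0 : k ≠ 0 := Nat.card_pos.ne'
  have hk3 : k.Coprime 3 := by
    obtain ⟨n, hn⟩ := IsPGroup.iff_card.1 c.twoGroup
    rw [hk, hn]
    exact Nat.Coprime.pow_left _ (by decide)
  have hpow : ∀ {u : G}, u ∈ Q → u ^ k = 1 := fun {u} hu =>
    congrArg Subtype.val (pow_card_eq_one' (x := (⟨u, hu⟩ : Q)))
  have hinv : ∀ u : G, ρ u * ρ u⁻¹ = 1 := fun u => by rw [← map_mul, mul_inv_cancel, map_one]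
  have hinv' : ∀ u : G, ρ u⁻¹ * ρ u = 1 := fun u => by rw [← map_mul, inv_mul_cancel, map_one]
  have hconj : ∀ (b : G) {u v : G}, Commute (ρ u) (ρ v) →
      Commute (ρ (b * u * b⁻¹)) (ρ (b * v * b⁻¹)) := fun b u v huv => by
    rw [Commute, SemiconjBy, ← map_mul, ← map_mul, show b * u * b⁻¹ * (b * v * b⁻¹) = b * (u * v) * b⁻¹ by group,
      show b * v * b⁻¹ * (b * u * b⁻¹) = b * (v * u) * b⁻¹ by group, map_mul, map_mul, map_mul,
      map_mul (f := ρ) (b * (v * u)), map_mul (f := ρ) b (v * u), map_mul (f := ρ) v u, huv.eq]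
  -- the elements of `Q` with central image
  let Zc : Subgroup G :=
    { carrier := {u | u ∈ Q ∧ ∀ h ∈ Q, Commute (ρ u) (ρ h)}
      one_mem' := ⟨one_mem _, fun h _ => by rw [map_one]; exact Commute.one_left _⟩
      mul_mem' := fun {u v} hu hv => ⟨mul_mem hu.1 hv.1, fun h hh => by
        rw [map_mul]; exact (hu.2 h hh).mul_left (hv.2 h hh)⟩
      inv_mem' := fun {u} hu => ⟨inv_mem hu.1, fun h hh => by
        show ρ u⁻¹ * ρ h = ρ h * ρ u⁻¹
        calc ρ u⁻¹ * ρ h = ρ u⁻¹ * (ρ h * ρ u) * ρ u⁻¹ := by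
              rw [mul_assoc, mul_assoc, hinv, mul_one]
          _ = ρ h * ρ u⁻¹ := by rw [← (hu.2 h hh).eq, ← mul_assoc (ρ u⁻¹), hinv', one_mul]⟩ }
  have hZQ : ∀ {u : G}, u ∈ Zc → u ∈ Q := fun hu => hu.1
  have hZB : ∀ {b u : G}, b ∈ B → u ∈ Zc → b * u * b⁻¹ ∈ Zc := by
    intro b u hb hu
    refine ⟨c.conj_mem hb hu.1, fun h hh => ?_⟩
    have := hconj b (hu.2 _ (c.conj_mem (inv_mem hb) hh))
    rwa [show b * (b⁻¹ * h * b⁻¹⁻¹) * b⁻¹ = h by group] at this
  -- `x` fixes their images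
  have hZx : ∀ {u : G}, u ∈ Zc → ρ (x * u * x⁻¹) = ρ u := fun {u} hu =>
    quadratic_centralizes ρ hρx hquad hk3 hk0 (hpow hu.1) (hu.2 _ (c.conj_mem c.mem hu.1))
      (hu.2 _ (c.conj_mem c.mem (c.conj_mem c.mem hu.1)))
      ((hZB c.mem hu).2 _ (c.conj_mem c.mem (c.conj_mem c.mem hu.1)))
  have hZN : ∀ {u : G}, u ∈ Zc → Commute N (ρ u) := by
    intro u hu
    refine Commute.sub_left ?_ (Commute.one_left _)
    show ρ x * ρ u = ρ u * ρ x
    calc ρ x * ρ u = ρ (x * u * x⁻¹) * ρ x := by rw [← map_mul, ← map_mul, inv_mul_cancel_right]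
      _ = ρ u * ρ x := by rw [hZx hu]
  -- `B` fixes them too
  have hNne : N ≠ 0 := fun h => hg₀ (by
    rw [hN, sub_eq_zero] at h
    rw [map_mul, map_mul, map_inv_eq ρ (N := 0) (by rw [h, add_zero]) (mul_zero 0), h, one_mul,
      sub_zero, mul_one])
  have hZfix : ∀ {b u : G}, b ∈ B → u ∈ Zc → ρ (b * u * b⁻¹) = ρ u := by
    let W : Submodule F V := ⨅ (p : {p : G × G // p.1 ∈ B ∧ p.2 ∈ Zc}),
      LinearMap.ker (ρ (p.1.1 * p.1.2 * p.1.1⁻¹) - ρ p.1.2)
    have hWker : LinearMap.range N ≤ W := by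
      refine le_iInf fun p => ?_
      obtain ⟨⟨b, u⟩, hb, hu⟩ := p
      rintro _ ⟨v, rfl⟩
      have hu1 := hZB hb hu
      have hu2 := hZB hb hu1
      have h0 := annihilator_centralizes ρ (hann b hb) hk3 hk0 (hpow hu.1)
        (hu.2 _ hu1.1) (hu.2 _ hu2.1) (hu1.2 _ hu2.1) (hZN hu) (hZN hu1) (hZN hu2)
      rw [((hZN hu1).sub_right (hZN hu)).eq] at h0
      exact LinearMap.mem_ker.2 (LinearMap.congr_fun h0 v)
    have hmem : ∀ v : V, v ∈ W ↔ ∀ b ∈ B, ∀ u ∈ Zc, ρ (b * u * b⁻¹) v = ρ u v := by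
      intro v
      simp only [W, Submodule.mem_iInf, LinearMap.mem_ker, LinearMap.sub_apply, sub_eq_zero]
      exact ⟨fun h b hb u hu => h ⟨(b, u), hb, hu⟩, fun h p => h _ p.2.1 _ p.2.2⟩
    have hWinv : ∀ g, ∀ v ∈ W, ρ g v ∈ W := by
      intro g
      have hg : g ∈ Subgroup.closure ((Q : Set G) ∪ B) := by
        rw [← sup_eq_closure, c.gen]; exact mem_top g
      induction hg using Subgroup.closure_induction'' with
      | mem y hy => ?_
      | inv_mem y hy => ?_
      | one => intro v hv; rwa [map_one]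
      | mul y z _ _ hy hz => intro v hv; rw [map_mul]; exact hy _ (hz v hv)
      · revert hy
        rintro (hy | hy) v hv <;> rw [hmem] at hv ⊢ <;> intro b hb u hu
        · have h1 := congrArg (ρ y) (hv b hb u hu)
          rw [← Module.End.mul_apply, ← Module.End.mul_apply, ← ((hZB hb hu).2 y hy).eq,
            ← (hu.2 y hy).eq] at h1
          exact h1
        · have hb' : y⁻¹ * b * y ∈ B := mul_mem (mul_mem (inv_mem hy) hb) hy
          have hu' : y⁻¹ * u * y ∈ Zc := by simpa using hZB (inv_mem hy) hu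
          have h1 := congrArg (ρ y) (hv _ hb' _ hu')
          rw [← Module.End.mul_apply, ← Module.End.mul_apply, ← map_mul, ← map_mul] at h1
          rw [← Module.End.mul_apply, ← Module.End.mul_apply, ← map_mul, ← map_mul]
          convert h1 using 3 <;> group
      · revert hy
        rintro (hy | hy) v hv <;> rw [hmem] at hv ⊢ <;> intro b hb u hu
        · have h1 := congrArg (ρ y⁻¹) (hv b hb u hu)
          rw [← Module.End.mul_apply, ← Module.End.mul_apply,
            ← ((hZB hb hu).2 y⁻¹ (inv_mem hy)).eq, ← (hu.2 y⁻¹ (inv_mem hy)).eq] at h1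
          exact h1
        · have hb' : y * b * y⁻¹ ∈ B := mul_mem (mul_mem hy hb) (inv_mem hy)
          have hu' : y * u * y⁻¹ ∈ Zc := hZB hy hu
          have h1 := congrArg (ρ y⁻¹) (hv _ hb' _ hu')
          rw [← Module.End.mul_apply, ← Module.End.mul_apply, ← map_mul, ← map_mul] at h1
          rw [← Module.End.mul_apply, ← Module.End.mul_apply, ← map_mul, ← map_mul]
          convert h1 using 3 <;> group
    rcases hirr W hWinv with hW | hW
    · exfalso
      refine hNne (LinearMap.ext fun v => ?_)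
      have : N v ∈ W := hWker ⟨v, rfl⟩
      rw [hW, Submodule.mem_bot] at this
      exact this
    · intro b u hb hu
      exact LinearMap.ext fun v => (hmem v).1 (hW ▸ Submodule.mem_top) b hb u hu
  -- commutators act as `1` or `-1`
  have hsign : ∀ {g h : G}, g ∈ Q → h ∈ Q →
      ρ g * ρ h = ρ h * ρ g ∨ ρ g * ρ h = -(ρ h * ρ g) := by
    intro g h hg hh
    set e := ⁅g, h⁆ with he
    have heQ : e ∈ Q := commutator_le.1 (commutator_le_self Q) g hg h hh
    have hec := c.fixed_central e heQ (c.comm_fixed g hg h hh)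
    have heZ : e ∈ Zc := ⟨heQ, fun u hu => by
      rw [Commute, SemiconjBy, ← map_mul, ← map_mul, hec u hu]⟩
    have he2 : e * e = 1 := by
      have h1 := c.fixed_central (g ^ 2) (pow_mem hg 2) (c.sq_fixed g hg) h hh
      calc e * e = g * e * g⁻¹ * e := by rw [← hec g hg, mul_inv_cancel_right]
        _ = g ^ 2 * h * (g ^ 2)⁻¹ * h⁻¹ := by rw [he, commutatorElement_def, sq]; group
        _ = 1 := by rw [h1, mul_inv_cancel_right, mul_inv_cancel]
    have hgh : ρ g * ρ h = ρ e * (ρ h * ρ g) := by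
      rw [← map_mul, ← map_mul, ← map_mul, he, commutatorElement_def]
      congr 1
      group
    have hee : ρ e * ρ e = 1 := by rw [← map_mul, he2, map_one]
    have hcomm : ∀ y, Commute (ρ e) (ρ y) := by
      intro y
      have hy : y ∈ Subgroup.closure ((Q : Set G) ∪ B) := by
        rw [← sup_eq_closure, c.gen]; exact mem_top y
      have key : ∀ z ∈ (Q : Set G) ∪ B, Commute (ρ e) (ρ z) := by
        rintro z (hz | hz)
        · exact heZ.2 z hz
        · show ρ e * ρ z = ρ z * ρ e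
          rw [← hZfix hz heZ, ← map_mul, inv_mul_cancel_right, map_mul, hZfix hz heZ]
      induction hy using Subgroup.closure_induction'' with
      | mem z hz => exact key z hz
      | inv_mem z hz => ?_
      | one => rw [map_one]; exact Commute.one_right _
      | mul z w _ _ hz hw => rw [map_mul]; exact hz.mul_right hw
      · show ρ e * ρ z⁻¹ = ρ z⁻¹ * ρ e
        calc ρ e * ρ z⁻¹ = ρ z⁻¹ * (ρ z * ρ e) * ρ z⁻¹ := by rw [← mul_assoc, hinv', one_mul]
          _ = ρ z⁻¹ * ρ e := by rw [← (key z hz).eq, mul_assoc, mul_assoc, hinv, mul_one]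
    rcases hirr (LinearMap.ker (ρ e - 1)) (fun y v hv => by
        rw [LinearMap.mem_ker, ← Module.End.mul_apply, ((hcomm y).sub_left (Commute.one_left _)).eq,
          Module.End.mul_apply, LinearMap.mem_ker.1 hv, map_zero]) with hker | hker
    · right
      have h1 : ρ e + 1 = 0 := LinearMap.ext fun v => by
        have : (ρ e + 1) v ∈ LinearMap.ker (ρ e - 1) := by
          rw [LinearMap.mem_ker, ← Module.End.mul_apply,
            show (ρ e - 1) * (ρ e + 1) = ρ e * ρ e - 1 by noncomm_ring, hee, sub_self]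
          rfl
        rwa [hker, Submodule.mem_bot] at this
      rw [hgh, eq_neg_of_add_eq_zero_left h1, neg_one_mul]
    · left
      rw [LinearMap.ker_eq_top, sub_eq_zero] at hker
      rw [hgh, hker, one_mul]
  -- images fixed by `x` are central
  have hfix : ∀ {g : G}, g ∈ Q → ρ (x * g * x⁻¹) = ρ g → g ∈ Zc := by
    intro g hg he
    have h1 := c.conj_mem c.mem hg
    have h2 := c.conj_mem c.mem h1
    have ht := c.fixed_central _ (mul_mem (mul_mem hg h1) h2) (c.norm_fixed hg)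
    have he2 : ρ (x * (x * g * x⁻¹) * x⁻¹) = ρ g := by
      rw [map_mul, map_mul, he, ← map_mul, ← map_mul, he]
    have h3 : g ^ 3 ∈ Zc := by
      refine ⟨pow_mem hg 3, fun h hh => ?_⟩
      have e : ρ (g ^ 3) = ρ (g * (x * g * x⁻¹) * (x * (x * g * x⁻¹) * x⁻¹)) := by
        rw [map_mul, map_mul ρ g, he, he2, map_pow, pow_succ, sq]
      rw [e, Commute, SemiconjBy, ← map_mul, ← map_mul, ht h hh]
    have hcop : Nat.Coprime 3 (orderOf g) :=
      hk3.symm.coprime_dvd_right (orderOf_dvd_of_pow_eq_one (hpow hg))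
    obtain ⟨m, hm⟩ := exists_pow_eq_self_of_coprime hcop
    exact hm ▸ pow_mem h3 m
  -- a noncentral element anticommutes with its conjugate
  have hne2 : ∀ r : Module.End F V, r = -r → r = 0 := fun r hr =>
    eq_zero_of_two_nsmul (by nth_rewrite 2 [hr]; exact add_neg_cancel r)
  have hunit : ∀ a b : G, ρ a * ρ b ≠ 0 := fun a b h => by
    have := congrArg (fun r => ρ b⁻¹ * ρ a⁻¹ * r) h
    simp only [mul_zero, mul_assoc] at this
    rw [← mul_assoc (ρ a⁻¹), hinv', one_mul, hinv'] at this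
    exact one_ne_zero this
  have hnot : ∀ {a b : G}, ρ a * ρ b = -(ρ b * ρ a) → ρ a * ρ b = ρ b * ρ a → False :=
    fun {a b} h1 h2 => hunit b a (hne2 _ (h2.symm.trans h1))
  have hcom2 : ∀ {g f : G}, g ∈ Q → f ∈ Q → Commute (ρ f) (ρ (x * g * x⁻¹)) →
      Commute (ρ f) (ρ (x * (x * g * x⁻¹) * x⁻¹)) → Commute (ρ f) (ρ g) := by
    intro g f hg hf c1 c2
    have h1 := c.conj_mem c.mem hg
    have h2 := c.conj_mem c.mem h1
    have ht := c.fixed_central _ (mul_mem (mul_mem hg h1) h2) (c.norm_fixed hg) f hf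
    have h3 : Commute (ρ f) (ρ (g * (x * g * x⁻¹) * (x * (x * g * x⁻¹) * x⁻¹))) := by
      rw [Commute, SemiconjBy, ← map_mul, ← map_mul, ht]
    have hci : ∀ {u : G}, Commute (ρ f) (ρ u) → Commute (ρ f) (ρ u⁻¹) := fun {u} hu => by
      show ρ f * ρ u⁻¹ = ρ u⁻¹ * ρ f
      calc ρ f * ρ u⁻¹ = ρ u⁻¹ * (ρ u * ρ f) * ρ u⁻¹ := by rw [← mul_assoc, hinv', one_mul]
        _ = ρ u⁻¹ * ρ f := by rw [← hu.eq, mul_assoc, mul_assoc, hinv, mul_one]
    have h4 : Commute (ρ f) (ρ (g * (x * g * x⁻¹) * (x * (x * g * x⁻¹) * x⁻¹) *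
        (x * (x * g * x⁻¹) * x⁻¹)⁻¹ * (x * g * x⁻¹)⁻¹)) := by
      rw [map_mul ρ _ (x * g * x⁻¹)⁻¹, map_mul ρ _ (x * (x * g * x⁻¹) * x⁻¹)⁻¹]
      exact (h3.mul_right (hci c2)).mul_right (hci c1)
    rwa [mul_inv_cancel_right, mul_inv_cancel_right] at h4
  have hanti : ∀ {g : G}, g ∈ Q → g ∉ Zc →
      ρ g * ρ (x * g * x⁻¹) = -(ρ (x * g * x⁻¹) * ρ g) := by
    intro g hg hgZ
    have h1 := c.conj_mem c.mem hg
    rcases hsign hg h1 with h | h
    · exfalso
      have c01 : Commute (ρ g) (ρ (x * g * x⁻¹)) := h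
      have c12 := hconj x c01
      have c02 : Commute (ρ (x * (x * g * x⁻¹) * x⁻¹)) (ρ g) :=
        hcom2 hg (c.conj_mem c.mem h1) c12.symm (Commute.refl _)
      exact hgZ (hfix hg (quadratic_centralizes ρ hρx hquad hk3 hk0 (hpow hg) c01 c02.symm c12))
    · exact h
  have hg₀Z : g₀ ∉ Zc := fun h => hg₀ (hZx h)
  set h₀ := x * g₀ * x⁻¹ with hh₀
  have hh₀Q : h₀ ∈ Q := c.conj_mem c.mem hg₀Q
  have hA := hanti hg₀Q hg₀Z
  -- elements commuting with the pair are central
  have hcentral : ∀ {f : G}, f ∈ Q → Commute (ρ f) (ρ g₀) → Commute (ρ f) (ρ h₀) → f ∈ Zc := by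
    intro f hf c0 c1
    by_contra hfZ
    set f₁ := x * f * x⁻¹ with hf₁
    have hA' := hanti hf hfZ
    have d1 : Commute (ρ f₁) (ρ h₀) := hconj x c0
    have d2 : Commute (ρ f₁) (ρ (x * h₀ * x⁻¹)) := hconj x c1
    have d0 : Commute (ρ f₁) (ρ g₀) := hcom2 hg₀Q (c.conj_mem c.mem hf) d1 d2
    by_cases hgfZ : g₀ * f ∈ Zc
    · refine hnot hA ?_
      have h1 : Commute (ρ (g₀ * f)) (ρ h₀) := hgfZ.2 h₀ hh₀Q
      rw [map_mul] at h1
      have h2 : ρ g₀ = ρ g₀ * ρ f * ρ f⁻¹ := by rw [mul_assoc, hinv, mul_one]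
      have h3 : Commute (ρ f⁻¹) (ρ h₀) := by
        show ρ f⁻¹ * ρ h₀ = ρ h₀ * ρ f⁻¹
        calc ρ f⁻¹ * ρ h₀ = ρ f⁻¹ * (ρ h₀ * ρ f) * ρ f⁻¹ := by
              rw [mul_assoc, mul_assoc, hinv, mul_one]
          _ = ρ h₀ * ρ f⁻¹ := by rw [← c1.eq, ← mul_assoc (ρ f⁻¹), hinv', one_mul]
      have h4 := h1.mul_left h3
      rw [← h2] at h4
      exact h4.eq
    · refine hnot (hanti (mul_mem hg₀Q hf) hgfZ) ?_
      rw [show x * (g₀ * f) * x⁻¹ = h₀ * f₁ by rw [hh₀, hf₁]; group, map_mul, map_mul]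
      calc ρ g₀ * ρ f * (ρ h₀ * ρ f₁) = ρ g₀ * ρ h₀ * (ρ f * ρ f₁) := by
            rw [mul_assoc, ← mul_assoc (ρ f), c1.eq, mul_assoc (ρ h₀), ← mul_assoc (ρ g₀)]
        _ = ρ h₀ * ρ g₀ * (ρ f₁ * ρ f) := by rw [hA, hA', neg_mul_neg]
        _ = ρ h₀ * ρ f₁ * (ρ g₀ * ρ f) := by
            rw [mul_assoc, ← mul_assoc (ρ g₀), ← d0.eq, mul_assoc (ρ f₁), ← mul_assoc (ρ h₀)]
  -- the cosets
  have hflip : ∀ {a b h : G}, ρ a * ρ b = -(ρ b * ρ a) → ρ h * ρ b = -(ρ b * ρ h) →
      Commute (ρ (h * a)) (ρ b) := fun {a b h} h1 h2 => by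
    show ρ (h * a) * ρ b = ρ b * ρ (h * a)
    rw [map_mul, mul_assoc, h1, mul_neg, ← mul_assoc, h2, neg_mul, neg_neg, mul_assoc]
  have hA2 : ρ h₀ * ρ g₀ = -(ρ g₀ * ρ h₀) := by rw [hA, neg_neg]
  have hcases : ∀ h ∈ Q, h ∈ Zc ∨ h * g₀ ∈ Zc ∨ h * h₀ ∈ Zc ∨ h * h₀ * g₀ ∈ Zc := by
    intro h hh
    rcases hsign hh hg₀Q with s | s <;> rcases hsign hh hh₀Q with s' | s'
    · exact Or.inl (hcentral hh s s')
    · refine Or.inr (Or.inl (hcentral (mul_mem hh hg₀Q) ?_ (hflip hA s')))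
      rw [map_mul]; exact Commute.mul_left s (Commute.refl _)
    · refine Or.inr (Or.inr (Or.inl (hcentral (mul_mem hh hh₀Q) (hflip hA2 s) ?_)))
      rw [map_mul]; exact Commute.mul_left s' (Commute.refl _)
    · refine Or.inr (Or.inr (Or.inr (hcentral (mul_mem (mul_mem hh hh₀Q) hg₀Q) ?_ ?_)))
      · rw [map_mul]; exact Commute.mul_left (hflip hA2 s) (Commute.refl _)
      · refine hflip hA ?_
        rw [map_mul]
        calc ρ h * ρ h₀ * ρ h₀ = -(ρ h₀ * ρ h) * ρ h₀ := by rw [s']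
          _ = -(ρ h₀ * (ρ h * ρ h₀)) := by rw [neg_mul, mul_assoc]
  -- the action on the cosets
  set Z' := Zc.subgroupOf Q with hZ'
  have hZ'n : Z'.Normal := ⟨fun u hu g => by
    rw [hZ', mem_subgroupOf] at hu ⊢
    push_cast
    refine ⟨mul_mem (mul_mem g.2 u.2) (inv_mem g.2), fun h hh => ?_⟩
    rw [map_mul, map_mul, ← (hu.2 g g.2).eq, mul_assoc, hinv, mul_one]
    exact hu.2 h hh⟩
  have hcard : Nat.card (↥Q ⧸ Z') ≤ 4 := by
    let r : Bool × Bool → ↥Q ⧸ Z' := fun p =>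
      QuotientGroup.mk ((cond p.1 (⟨h₀, hh₀Q⟩ : Q) 1 * cond p.2 (⟨g₀, hg₀Q⟩ : Q) 1)⁻¹)
    have hr : Function.Surjective r := by
      intro u
      obtain ⟨⟨h, hh⟩, rfl⟩ := QuotientGroup.mk_surjective u
      rcases hcases h hh with e | e | e | e
      · exact ⟨(false, false), (QuotientGroup.eq.2 (mem_subgroupOf.2 (by simpa using e))).trans rfl⟩
      all_goals
        first
        | exact ⟨(false, true), (QuotientGroup.eq.2 (mem_subgroupOf.2 (by
            simpa using (show g₀ * h ∈ Zc by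
              have := hZ'n.conj_mem ⟨h * g₀, mul_mem hh hg₀Q⟩ (mem_subgroupOf.2 e) ⟨g₀, hg₀Q⟩
              simpa [hZ', mem_subgroupOf, mul_assoc] using this))))⟩
        | exact ⟨(true, false), (QuotientGroup.eq.2 (mem_subgroupOf.2 (by
            simpa using (show h₀ * h ∈ Zc by
              have := hZ'n.conj_mem ⟨h * h₀, mul_mem hh hh₀Q⟩ (mem_subgroupOf.2 e) ⟨h₀, hh₀Q⟩
              simpa [hZ', mem_subgroupOf, mul_assoc] using this))))⟩
        | exact ⟨(true, true), (QuotientGroup.eq.2 (mem_subgroupOf.2 (by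
            simpa [mul_assoc] using (show h₀ * g₀ * h ∈ Zc by
              have := hZ'n.conj_mem ⟨h * (h₀ * g₀), mul_mem hh (mul_mem hh₀Q hg₀Q)⟩
                (mem_subgroupOf.2 (by simpa [mul_assoc] using e)) ⟨h₀ * g₀, mul_mem hh₀Q hg₀Q⟩
              simpa [hZ', mem_subgroupOf, mul_assoc] using this))))⟩
    refine (Nat.card_le_card_of_surjective r hr).trans ?_
    simp
  let φ : B →* Equiv.Perm (↥Q ⧸ Z') :=
    { toFun := fun b =>
        { toFun := QuotientGroup.map Z' Z' (normalizerMonoidHom Q ⟨b, c.norm b.2⟩).toMonoidHom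
            fun u hu => by
              rw [mem_comap, hZ', mem_subgroupOf]
              exact hZB b.2 hu
          invFun := QuotientGroup.map Z' Z'
            (normalizerMonoidHom Q ⟨(b⁻¹ : B), c.norm (b⁻¹ : B).2⟩).toMonoidHom
            fun u hu => by
              rw [mem_comap, hZ', mem_subgroupOf]
              exact hZB (b⁻¹ : B).2 hu
          left_inv := fun u => by
            obtain ⟨u, rfl⟩ := QuotientGroup.mk_surjective u
            refine congrArg QuotientGroup.mk (Subtype.ext ?_)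
            show (b : G)⁻¹ * ((b : G) * u * (b : G)⁻¹) * (b : G)⁻¹⁻¹ = u
            group
          right_inv := fun u => by
            obtain ⟨u, rfl⟩ := QuotientGroup.mk_surjective u
            refine congrArg QuotientGroup.mk (Subtype.ext ?_)
            show (b : G) * ((b : G)⁻¹ * u * (b : G)⁻¹⁻¹) * (b : G)⁻¹ = u
            group }
      map_one' := Equiv.ext fun u => by
        obtain ⟨u, rfl⟩ := QuotientGroup.mk_surjective u
        refine congrArg QuotientGroup.mk (Subtype.ext ?_)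
        show (1 : G) * u * (1 : G)⁻¹ = u
        group
      map_mul' := fun a b => Equiv.ext fun u => by
        obtain ⟨u, rfl⟩ := QuotientGroup.mk_surjective u
        refine congrArg QuotientGroup.mk (Subtype.ext ?_)
        show (a : G) * b * u * ((a : G) * b)⁻¹ = (a : G) * ((b : G) * u * (b : G)⁻¹) * (a : G)⁻¹
        group }
  have hrange : IsMulCommutative φ.range := by
    have h3 : IsPGroup 3 φ.range :=
      IsPGroup.of_surjective c.threeGroup φ.rangeRestrict φ.rangeRestrict_surjective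
    have := Fact.mk Nat.prime_three
    obtain ⟨n, hn⟩ := IsPGroup.iff_card.1 h3
    have h24 : Nat.card φ.range ∣ 24 := by
      refine (card_subgroup_dvd_card _).trans ?_
      rw [Nat.card_perm, show 24 = Nat.factorial 4 from rfl]
      exact Nat.factorial_dvd_factorial hcard
    have hn1 : n ≤ 1 := by
      by_contra hn1
      have : 3 ^ 2 ∣ 24 := (pow_dvd_pow 3 (by omega)).trans (hn ▸ h24)
      norm_num at this
    rcases Nat.le_one_iff_eq_zero_or_eq_one.1 hn1 with rfl | rfl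
    · rw [pow_zero] at hn
      rw [eq_bot_of_card_eq _ hn]
      infer_instance
    · rw [pow_one] at hn
      have := isCyclic_of_prime_card hn
      infer_instance
  have hxker : φ ⟨x, c.mem⟩ = 1 := by
    have h1 : (⟨x, c.mem⟩ : B) ∈ commutator B := by
      have h := c.derived
      rw [← map_subtype_commutator, mem_map] at h
      obtain ⟨y, hy, hyx⟩ := h
      rwa [show (⟨x, c.mem⟩ : B) = y from Subtype.ext hyx.symm]
    have h2 : commutator B ≤ φ.ker := by
      rw [_root_.commutator_def, commutator_le]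
      intro a _ b _
      rw [MonoidHom.mem_ker, map_commutatorElement, commutatorElement_eq_one_iff_mul_comm]
      exact congrArg Subtype.val (mul_comm' (⟨φ a, a, rfl⟩ : φ.range) ⟨φ b, b, rfl⟩)
    exact h2 h1
  have hmk := Equiv.ext_iff.1 hxker (QuotientGroup.mk (⟨g₀, hg₀Q⟩ : Q))
  have hmem : h₀⁻¹ * g₀ ∈ Zc := mem_subgroupOf.1 (QuotientGroup.eq.1 hmk)
  refine hnot hA ?_
  have h1 := hmem.2 h₀ hh₀Q
  have h2 : ρ g₀ = ρ h₀ * ρ (h₀⁻¹ * g₀) := by rw [← map_mul, mul_inv_cancel_left]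
  rw [h2]
  exact ((Commute.refl (ρ h₀)).mul_left h1).eq

end Cfsg.Agent.Lib.DerivedLength
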