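import Cfsg.Agent.Lib.HallHigmanB.PLength
import Cfsg.Agent.Lib.DerivedLength.Rep
import Cfsg.Agent.Lib.LocalChar.Basic
import Cfsg.Agent.Lib.Puig.Basic
import Cfsg.Agent.Lib.PGroup.Frattini

/-!
The `p`-length of a `p`-soluble group is at most the derived length of a Sylow `p`-subgroup, `p` odd.
-/

set_option autoImplicit false

namespace Cfsg.Agent.Lib.DerivedLength

open Subgroup Cfsg
open Cfsg.Agent.Lib Cfsg.Agent.Lib.PSolvable Cfsg.Agent.Lib.HallHigmanB
open scoped commutatorElement

universe u w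

/-- The reduction to the irreducible case. -/
theorem commute_image {G : Type*} [Group G] [Finite G] {Q B : Subgroup G} {x : G}
    (c : Config Q B x) {F : Type*} [Field F] [CharP F 3] {V : Type w} [AddCommGroup V] [Module F V]
    [FiniteDimensional F V] (ρ : G →* Module.End F V) (hquad : (ρ x - 1) * (ρ x - 1) = 0)
    (hann : ∀ b ∈ B, (ρ x - 1) * ((ρ b - 1) * (ρ b - 1)) = 0) :
    ∀ g ∈ Q, ρ (x * g * x⁻¹) = ρ g := by
  suffices H : ∀ (d : ℕ) {V : Type w} [AddCommGroup V] [Module F V] [FiniteDimensional F V],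
      Module.finrank F V = d → ∀ ρ : G →* Module.End F V, (ρ x - 1) * (ρ x - 1) = 0 →
      (∀ b ∈ B, (ρ x - 1) * ((ρ b - 1) * (ρ b - 1)) = 0) →
      ∀ g ∈ Q, ρ (x * g * x⁻¹) = ρ g from H _ rfl ρ hquad hann
  intro d
  induction d using Nat.strong_induction_on with
  | _ d ih =>
  intro V _ _ _ hd ρ hquad hann
  by_cases hirr : ∀ W : Submodule F V, (∀ g, ∀ v ∈ W, ρ g v ∈ W) → W = ⊥ ∨ W = ⊤
  · exact commute_of_irreducible c ρ hquad hann hirr
  push Not at hirr
  obtain ⟨W, hinv, hW0, hW1⟩ := hirr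
  let ρW : G →* Module.End F W :=
    { toFun := fun h => (ρ h).restrict (hinv h)
      map_one' := by ext w; simp [LinearMap.restrict_apply]
      map_mul' := fun a b => by ext w; simp [LinearMap.restrict_apply] }
  let ρ₂ : G →* Module.End F (V ⧸ W) :=
    { toFun := fun h => W.mapQ W (ρ h) fun v hv => hinv h v hv
      map_one' := by ext v; simp
      map_mul' := fun a b => by ext v; simp }
  have hW : ∀ g ∈ Q, ρW (x * g * x⁻¹) = ρW g := by
    refine ih _ ?_ rfl ρW ?_ fun b hb => ?_
    · rw [← hd]; exact Submodule.finrank_lt hW1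
    · refine LinearMap.ext fun v => Subtype.ext ?_
      exact LinearMap.congr_fun hquad (v : V)
    · refine LinearMap.ext fun v => Subtype.ext ?_
      exact LinearMap.congr_fun (hann b hb) (v : V)
  have h₂ : ∀ g ∈ Q, ρ₂ (x * g * x⁻¹) = ρ₂ g := by
    refine ih _ ?_ rfl ρ₂ ?_ fun b hb => ?_
    · rw [← hd]
      have h1 := W.finrank_quotient_add_finrank
      have h2 : 0 < Module.finrank F W :=
        Nat.pos_of_ne_zero fun h => hW0 (Submodule.finrank_eq_zero.1 h)
      omega
    · refine LinearMap.ext fun v => ?_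
      obtain ⟨v, rfl⟩ := W.mkQ_surjective v
      exact congrArg W.mkQ (LinearMap.congr_fun hquad v)
    · refine LinearMap.ext fun v => ?_
      obtain ⟨v, rfl⟩ := W.mkQ_surjective v
      exact congrArg W.mkQ (LinearMap.congr_fun (hann b hb) v)
  intro g hg
  set u := g⁻¹ * (x * g * x⁻¹) with hu
  have huQ : u ∈ Q := mul_mem (inv_mem hg) (c.conj_mem c.mem hg)
  have hgu : ρ (x * g * x⁻¹) = ρ g * ρ u := by rw [hu, ← map_mul, mul_inv_cancel_left]
  have huW : ρW u = 1 := by rw [hu, map_mul, hW g hg, ← map_mul, inv_mul_cancel, map_one]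
  have hu₂ : ρ₂ u = 1 := by rw [hu, map_mul, h₂ g hg, ← map_mul, inv_mul_cancel, map_one]
  have hN : (Nat.card Q : F) ≠ 0 := by
    obtain ⟨k, hk⟩ := IsPGroup.iff_card.1 c.twoGroup
    rw [Ne, CharP.cast_eq_zero_iff F 3, hk]
    exact fun h => by simpa using Nat.prime_three.dvd_of_dvd_pow h
  have h1 := HallHigmanB.eq_one_of_unipotent (ρ u) (N := Nat.card Q) hN
    (by rw [← map_pow, show u ^ Nat.card Q = 1 from
      congrArg Subtype.val (pow_card_eq_one' (x := (⟨u, huQ⟩ : Q))), map_one]) (by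
      refine LinearMap.ext fun v => ?_
      have hmem : (ρ u - 1) v ∈ W := by
        rw [LinearMap.sub_apply, Module.End.one_apply, ← Submodule.Quotient.eq]
        exact LinearMap.congr_fun hu₂ (Submodule.Quotient.mk v)
      show (ρ u - 1) ((ρ u - 1) v) = 0
      have := congrArg Subtype.val (LinearMap.congr_fun huW ⟨_, hmem⟩)
      rw [LinearMap.sub_apply, Module.End.one_apply, sub_eq_zero]
      exact this)
  rw [hgu, h1, mul_one]

/-- A minimal `B`-invariant `q`-subgroup moved by the central element `x`. -/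
theorem exists_critical_group {H : Type*} [Group H] [Finite H] {p : ℕ} [Fact p.Prime]
    {O B : Subgroup H} {x : H} (hBO : B ≤ normalizer (O : Set H)) (hBp : IsPGroup p B)
    (hxB : x ∈ B) (hxc : ∀ b ∈ B, b * x = x * b) (hO : (Nat.card O).Coprime p)
    (hx : ¬ O ≤ centralizer {x}) :
    ∃ (q : ℕ) (Q : Subgroup H), q.Prime ∧ q ≠ p ∧ IsPGroup q Q ∧ B ≤ normalizer (Q : Set H) ∧
      (∀ g ∈ Q, x * g = g * x → ∀ h ∈ Q, g * h = h * g) ∧
      (∀ g ∈ Q, ∀ h ∈ Q, x * ⁅g, h⁆ = ⁅g, h⁆ * x) ∧ (∀ g ∈ Q, x * g ^ q = g ^ q * x) ∧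
      ∃ g ∈ Q, x * g * x⁻¹ ≠ g := by
  classical
  obtain ⟨m, hm⟩ := IsPGroup.iff_card.1 hBp
  have hcop : (Nat.card B).Coprime (Nat.card O) := hm ▸ hO.symm.pow_left m
  have hsol : Group.IsSolvable B := by
    have := hBp.isNilpotent
    infer_instance
  obtain ⟨q, hq, P, hP, hPx⟩ : ∃ q : ℕ, ∃ _ : Fact q.Prime, ∃ P : Sylow q O,
      B ≤ normalizer (((P : Subgroup O).map O.subtype : Subgroup H) : Set H) ∧
        ¬ (P : Subgroup O).map O.subtype ≤ centralizer {x} := by
    by_contra hall
    push Not at hall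
    refine hx ?_
    have hdvd : Nat.card O ∣ Nat.card (O ⊓ centralizer {x} : Subgroup H) := by
      rw [Nat.dvd_iff_prime_pow_dvd_dvd]
      intro q k hq hk
      haveI := Fact.mk hq
      obtain ⟨P, hP⟩ := Coprime.exists_invariant_sylow (p := q) hBO hcop (Or.inl hsol)
      refine dvd_trans ?_ (card_dvd_of_le (le_inf (map_subtype_le (P : Subgroup O))
        (hall q ⟨hq⟩ P hP)))
      rw [card_map_of_injective O.subtype_injective]
      exact P.pow_dvd_card_of_pow_dvd_card hk
    have := eq_of_le_of_card_ge (inf_le_left : O ⊓ centralizer {x} ≤ O)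
      (Nat.le_of_dvd Nat.card_pos hdvd)
    exact this.ge.trans inf_le_right
  haveI := hq
  have hqp : q ≠ p := by
    rintro rfl
    refine hPx ?_
    have hP0 : (P : Subgroup O) = ⊥ := by
      obtain ⟨k, hk⟩ := P.2.exists_card_eq
      rcases Nat.eq_zero_or_pos k with h0 | h0
      · exact eq_bot_of_card_eq _ (by rw [hk, h0, pow_zero])
      · exfalso
        refine (Nat.Prime.coprime_iff_not_dvd hq.out).1 hO.symm ?_
        exact (dvd_pow_self q h0.ne').trans (hk ▸ card_subgroup_dvd_card _)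
    rw [hP0, Subgroup.map_bot]
    exact bot_le
  obtain ⟨Q, ⟨hQO, hQp, hQB, hQx⟩, hmin⟩ := (wellFounded_lt (α := Subgroup H)).has_min
    {Q | Q ≤ O ∧ IsPGroup q Q ∧ B ≤ normalizer (Q : Set H) ∧ ¬ Q ≤ centralizer {x}}
    ⟨(P : Subgroup O).map O.subtype, map_subtype_le _, P.2.map _, hP, hPx⟩
  have hmin' : ∀ R, R ≤ Q → R ≠ Q → B ≤ normalizer (R : Set H) → R ≤ centralizer {x} := by
    intro R h1 h2 h3
    by_contra h4
    exact hmin R ⟨h1.trans hQO, hQp.to_le h1, h3, h4⟩ (lt_of_le_of_ne h1 h2)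
  have hxQ : zpowers x ≤ normalizer (Q : Set H) := (zpowers_le.2 hxB).trans hQB
  have hxn : B ≤ normalizer (zpowers x : Set H) := by
    refine le_trans ?_ (centralizer_le_normalizer _)
    rw [centralizer_zpowers_eq_singleton]
    exact fun b hb => mem_centralizer_singleton_iff.2 (hxc b hb)
  have hcopQ : (Nat.card (zpowers x)).Coprime (Nat.card Q) :=
    (hcop.coprime_dvd_left (card_dvd_of_le (zpowers_le.2 hxB))).coprime_dvd_right
      (card_dvd_of_le hQO)
  have hQeq : ⁅Q, zpowers x⁆ = Q := by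
    by_contra hne
    have h1 := hmin' _ (Coprime.commutator_le_of_le_normalizer hxQ) hne
      (Coprime.le_normalizer_commutator hQB hxn)
    have h2 : ⁅⁅Q, zpowers x⁆, zpowers x⁆ = ⊥ := by
      rw [commutator_eq_bot_iff_le_centralizer, centralizer_zpowers_eq_singleton]
      exact h1
    have h3 := Coprime.commutator_eq_bot_of_commutator_commutator_eq_bot hxQ hcopQ h2
    rw [commutator_eq_bot_iff_le_centralizer, centralizer_zpowers_eq_singleton] at h3
    exact hQx h3
  have hQne : Q ≠ ⊥ := fun h => hQx (h ▸ bot_le)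
  set Φ := (frattini ↥Q).map Q.subtype with hΦ
  have : (frattini ↥Q).Characteristic := frattini_characteristic
  have hΦne : Φ ≠ Q := by
    intro e
    have htop : frattini ↥Q = ⊤ := by
      apply map_injective Q.subtype_injective
      rw [← MonoidHom.range_eq_map, range_subtype]
      exact e
    refine hQne (eq_bot_iff.2 fun g hg => ?_)
    have hb : (⊥ : Subgroup ↥Q) = ⊤ := frattini_nongenerating (by rw [bot_sup_eq, htop])
    have : (⟨g, hg⟩ : ↥Q) ∈ (⊥ : Subgroup ↥Q) := hb ▸ mem_top _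
    exact congrArg Subtype.val (mem_bot.1 this)
  have hΦx : Φ ≤ centralizer {x} :=
    hmin' Φ (map_subtype_le _) hΦne (hQB.trans LocalChar.le_normalizer_map_subtype)
  have hcommΦ : ∀ g ∈ Q, ∀ h ∈ Q, ⁅g, h⁆ ∈ Φ := fun g hg h hh =>
    ⟨⁅(⟨g, hg⟩ : Q), ⟨h, hh⟩⁆, PFrattini.commutator_le_frattini hQp
      (commutator_mem_commutator (mem_top _) (mem_top _)), rfl⟩
  have hDx : ⁅Q, Q⁆ ≤ centralizer {x} := commutator_le.2 fun g hg h hh => hΦx (hcommΦ g hg h hh)
  have hDQ : ⁅⁅Q, Q⁆, Q⁆ = ⊥ := by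
    have h1 : ⁅⁅zpowers x, ⁅Q, Q⁆⁆, Q⁆ = ⊥ := by
      rw [show ⁅zpowers x, ⁅Q, Q⁆⁆ = ⊥ by
        rw [commutator_comm, commutator_eq_bot_iff_le_centralizer,
          centralizer_zpowers_eq_singleton]; exact hDx,
        commutator_bot_left]
    have h2 : ⁅⁅⁅Q, Q⁆, Q⁆, zpowers x⁆ = ⊥ := by
      rw [commutator_eq_bot_iff_le_centralizer, centralizer_zpowers_eq_singleton]
      exact ((commutator_mono (commutator_le_self Q) le_rfl)).trans hDx
    have h3 := commutator_commutator_eq_bot_of_rotate h1 h2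
    rw [hQeq, commutator_comm] at h3
    exact h3
  refine ⟨q, Q, hq.out, hqp, hQp, hQB, fun g hg hfix h hh => ?_, fun g hg h hh => ?_,
    fun g hg => ?_, ?_⟩
  · have hgD := mem_commutator_of_fixed (hxQ (mem_zpowers x)) hQeq hg
      (by rw [hfix, mul_inv_cancel_right])
    exact (mem_centralizer_iff.1 (commutator_eq_bot_iff_le_centralizer.1 hDQ hgD) h hh).symm
  · exact (mem_centralizer_singleton_iff.1 (hΦx (hcommΦ g hg h hh))).symm
  · exact (mem_centralizer_singleton_iff.1 (hΦx
      ⟨(⟨g, hg⟩ : Q) ^ q, PFrattini.pow_mem_frattini hQp _, rfl⟩)).symm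
  · by_contra hall
    push Not at hall
    refine hQx fun g hg => ?_
    rw [mem_centralizer_singleton_iff]
    exact (mul_inv_eq_iff_eq_mul.1 (hall g hg)).symm

/-- A quadratic element of order `3` moves only `2`-groups. -/
theorem q_eq_two {H : Type*} [Group H] [Finite H] {q : ℕ} [Fact q.Prime] (hq3 : q ≠ 3)
    {Q : Subgroup H} (hQ : IsPGroup q Q) {x : H} (hxQ : x ∈ normalizer (Q : Set H))
    (hx3 : x ^ 3 = 1) (hcen : ∀ g ∈ Q, x * g = g * x → ∀ h ∈ Q, g * h = h * g)
    {F : Type u} [Field F] [CharP F 3] {V : Type w} [AddCommGroup V] [Module F V]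
    [FiniteDimensional F V] (ρ₀ : H →* Module.End F V) (hinj : Function.Injective ρ₀)
    (hne : ∃ g ∈ Q, x * g * x⁻¹ ≠ g) (hquad : (ρ₀ x - 1) * (ρ₀ x - 1) = 0) : q = 2 := by
  classical
  have := Fact.mk Nat.prime_three
  obtain ⟨g₀, hg₀, hne⟩ := hne
  set L := Q ⊔ Subgroup.zpowers x with hL
  have hxL : x ∈ L := Subgroup.mem_sup_right (Subgroup.mem_zpowers x)
  have hQL : Q ≤ L := le_sup_left
  let K := AlgebraicClosure F
  haveI : CharP K 3 := charP_of_injective_algebraMap (algebraMap F K).injective 3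
  let β : Module.End F V →ₐ[F] Module.End K (TensorProduct F K V) := Module.End.baseChangeHom F K V
  let ρ : L →* Module.End K (TensorProduct F K V) :=
    (β.toRingHom.toMonoidHom).comp (ρ₀.comp L.subtype)
  have hβ : Function.Injective β := LinearMap.baseChangeHom_injective F V K
  have hgen : (Q.subgroupOf L) ⊔ Subgroup.zpowers (⟨x, hxL⟩ : L) = ⊤ := by
    apply Subgroup.map_injective L.subtype_injective
    rw [Subgroup.map_sup, Subgroup.map_subgroupOf_eq_of_le hQL, MonoidHom.map_zpowers,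
      ← MonoidHom.range_eq_map, Subgroup.range_subtype]
    rfl
  have hb := bound (K := K) (p := 3) (q := q) hq3 (Q.subgroupOf L) hQ.comap_subtype ⟨x, hxL⟩
    (by
      rw [Subgroup.mem_normalizer_iff]
      intro h
      exact (Subgroup.mem_normalizer_iff.1 hxQ (h : H)))
    hgen (n := 1) le_rfl (Subtype.ext (by simpa using hx3))
    (fun g hg hfix h hh => Subtype.ext (hcen g hg (by
      have e := congrArg Subtype.val hfix
      simp only [Nat.sub_self, pow_zero, pow_one] at e
      push_cast at e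
      exact mul_inv_eq_iff_eq_mul.1 e) h hh))
    ρ ⟨⟨g₀, hQL hg₀⟩, hg₀, fun e => hne (by
      have e' := hinj (hβ e)
      simpa using e')⟩ 2 (by
      show (β (ρ₀ x) - 1) ^ 2 = 0
      have h := congrArg β hquad
      rw [map_mul, map_sub, map_one, map_zero] at h
      rw [sq]; exact h)
  rcases hb with h | ⟨a, m, b, h1, h2, h3, h4, -, -⟩
  · norm_num at h
  · obtain rfl : m = 1 := by omega
    exact ((Nat.prime_dvd_prime_iff_eq (Fact.out : q.Prime) Nat.prime_two).1
      (by norm_num at h4; exact h4 ▸ dvd_pow_self q (by omega)))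

/-- No faithful action with a quadratic central derived element as above. -/
theorem no_configuration {H : Type*} [Group H] [Finite H] (hsol : Cfsg.IsPSolvable 3 H)
    (hOp : Cfsg.pCore 3 H = ⊥) {F : Type u} [Field F] [CharP F 3] {V : Type w} [AddCommGroup V]
    [Module F V] [FiniteDimensional F V] (ρ : H →* Module.End F V) (hinj : Function.Injective ρ)
    {B : Subgroup H} (hB : IsPGroup 3 B) {x : H} (hxd : x ∈ ⁅B, B⁆)
    (hxc : ∀ b ∈ B, b * x = x * b) (hx3 : orderOf x = 3)
    (hquad : (ρ x - 1) * (ρ x - 1) = 0)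
    (hann : ∀ b ∈ B, (ρ x - 1) * ((ρ b - 1) * (ρ b - 1)) = 0) : False := by
  classical
  have := Fact.mk Nat.prime_three
  have hxB : x ∈ B := commutator_le_self B hxd
  have hxp : x ^ 3 = 1 := hx3 ▸ pow_orderOf_eq_one x
  set O := Cfsg.pPrimeCore 3 H with hO
  haveI : O.Normal := @Subgroup.normal_of_characteristic _ _ _ PSolvable.pPrimeCore_characteristic
  have hxO : ¬ O ≤ Subgroup.centralizer {x} := by
    intro h
    have h1 : x ∈ O := by
      refine PSolvable.centralizer_pPrimeCore_le_of_isPSolvable hsol hOp ?_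
      rw [Subgroup.mem_centralizer_iff]
      intro o ho
      exact Subgroup.mem_centralizer_singleton_iff.1 (h ho)
    have h2 : orderOf x ∣ Nat.card O := Subgroup.orderOf_dvd_natCard _ h1
    rw [hx3] at h2
    exact (Nat.Prime.coprime_iff_not_dvd Nat.prime_three).1 PSolvable.pPrimeCore_coprime.symm h2
  obtain ⟨q, Q, hq, hqp, hQ, hQB, hcen, hcf, hsq, hne⟩ := exists_critical_group (O := O)
    (by rw [normalizer_eq_top]; exact le_top) hB hxB hxc PSolvable.pPrimeCore_coprime hxO
  have := Fact.mk hq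
  obtain rfl := q_eq_two hqp hQ (hQB hxB) hxp hcen ρ hinj hne hquad
  set L := Q ⊔ B with hL
  have hQL : Q ≤ L := le_sup_left
  have hBL : B ≤ L := le_sup_right
  let x' : L := ⟨x, hBL hxB⟩
  have hder : x' ∈ ⁅B.subgroupOf L, B.subgroupOf L⁆ := by
    have h : (x' : H) ∈ (⁅B.subgroupOf L, B.subgroupOf L⁆).map L.subtype := by
      rw [map_commutator, map_subgroupOf_eq_of_le hBL]; exact hxd
    obtain ⟨y, hy, hyx⟩ := h
    exact (Subtype.ext hyx : y = x') ▸ hy
  have c : Config (Q.subgroupOf L) (B.subgroupOf L) x' :=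
    { twoGroup := hQ.comap_subtype
      threeGroup := hB.comap_subtype
      norm := fun b hb => mem_normalizer_iff.2 fun h => mem_normalizer_iff.1 (hQB hb) (h : H)
      gen := by rw [← subgroupOf_sup hQL hBL]; exact subgroupOf_self L
      mem := hxB
      central := fun b hb => Subtype.ext (hxc b hb)
      cube := Subtype.ext hxp
      derived := hder
      fixed_central := fun g hg e h hh => Subtype.ext (hcen g hg (congrArg Subtype.val e) h hh)
      comm_fixed := fun g hg h hh => Subtype.ext (hcf g hg h hh)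
      sq_fixed := fun g hg => Subtype.ext (hsq g hg) }
  obtain ⟨g, hg, hgne⟩ := hne
  exact hgne (hinj (commute_image c (ρ.comp L.subtype) hquad (fun b hb => hann b hb) ⟨g, hQL hg⟩ hg))

theorem derived_map_commutator {G : Type*} [Group G] (S : Subgroup G) (i : ℕ) :
    (derivedSeries ↥S (i + 1)).map S.subtype =
      ⁅(derivedSeries ↥S i).map S.subtype, (derivedSeries ↥S i).map S.subtype⁆ := by
  rw [derivedSeries_succ, map_commutator]

theorem le_normalizer_derived {G : Type*} [Group G] (S : Subgroup G) (i : ℕ) :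
    S ≤ normalizer (((derivedSeries ↥S i).map S.subtype : Subgroup G) : Set G) := by
  haveI := derivedSeries_normal ↥S i
  refine Subgroup.le_normalizer_iff.mpr fun g hg y hy => ?_
  obtain ⟨z, hz, rfl⟩ := hy
  exact ⟨⟨g, hg⟩ * z * ⟨g, hg⟩⁻¹, Subgroup.Normal.conj_mem inferInstance z hz _, rfl⟩

/-- The layer step: the last but one derived subgroup of a Sylow subgroup lies in `E`. -/
theorem derived_le_layer {p : ℕ} [Fact p.Prime] (hp2 : p ≠ 2) {G₁ : Type u} [Group G₁] [Finite G₁]
    {E : Subgroup G₁} [E.Normal] (hEc : ∀ a ∈ E, ∀ b ∈ E, a * b = b * a)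
    (hEp : ∀ a ∈ E, a ^ p = 1) (hCE : centralizer (E : Set G₁) ≤ E)
    (hsol : IsPSolvable p (G₁ ⧸ E)) (hOp : pCore p (G₁ ⧸ E) = ⊥) (S : Sylow p G₁)
    (hES : E ≤ (S : Subgroup G₁)) (d : ℕ) (hd : derivedSeries ↥(S : Subgroup G₁) (d + 1) = ⊥) :
    (derivedSeries ↥(S : Subgroup G₁) d).map (S : Subgroup G₁).subtype ≤ E := by
  classical
  set S₀ : Subgroup G₁ := (S : Subgroup G₁) with hS₀
  set A := (derivedSeries ↥S₀ d).map S₀.subtype with hA
  have hAA : ∀ a ∈ A, ∀ b ∈ A, a * b = b * a := by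
    intro a ha b hb
    have h : ⁅a, b⁆ ∈ (derivedSeries ↥S₀ (d + 1)).map S₀.subtype := by
      rw [derived_map_commutator]; exact commutator_mem_commutator ha hb
    rw [hd, Subgroup.map_bot, mem_bot] at h
    exact commutatorElement_eq_one_iff_mul_comm.1 h
  have hSA := le_normalizer_derived S₀ d
  rcases Nat.eq_zero_or_pos d with hd0 | hd0
  · subst hd0
    have hS : A = S₀ := by
      rw [hA, derivedSeries_zero, ← MonoidHom.range_eq_map, range_subtype]
    rw [hS]
    exact fun s hs => hCE (mem_centralizer_iff.2 fun e he =>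
      hAA e (hS.ge (hES he)) s (hS.ge hs))
  obtain ⟨d', rfl⟩ : ∃ d', d = d' + 1 := ⟨d - 1, by omega⟩
  set B := (derivedSeries ↥S₀ d').map S₀.subtype with hB
  have hAB : A = ⁅B, B⁆ := derived_map_commutator S₀ d'
  have hSB := le_normalizer_derived S₀ d'
  -- the module
  haveI : IsMulCommutative E := ⟨⟨fun a b => Subtype.ext (hEc a a.2 b b.2)⟩⟩
  open scoped IsMulCommutative in
  haveI : Module (ZMod p) (Additive E) := AddCommGroup.zmodModule fun v => by
    apply Additive.toMul.injective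
    rw [toMul_nsmul, toMul_zero]
    exact Subtype.ext (hEp _ (Additive.toMul v).2)
  haveI : FiniteDimensional (ZMod p) (Additive E) := Module.Finite.of_finite
  let ρ : G₁ →* Module.End (ZMod p) (Additive E) :=
    { toFun := fun g => AddMonoidHom.toZModLinearMap p
        { toFun := fun v => Additive.ofMul (MulAut.conjNormal g (Additive.toMul v))
          map_zero' := by simp
          map_add' := fun a b => by simp }
      map_one' := by
        refine LinearMap.ext fun v => ?_
        simp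
      map_mul' := fun a b => by
        refine LinearMap.ext fun v => ?_
        simp }
  have hρv : ∀ (g : G₁) (e : E),
      ((Additive.toMul ((ρ g - 1) (Additive.ofMul e)) : E) : G₁) = ⁅g, (e : G₁)⁆ := by
    intro g e
    rw [LinearMap.sub_apply, Module.End.one_apply, sub_eq_add_neg, toMul_add, toMul_neg, coe_mul,
      coe_inv, commutatorElement_def]
    show ((MulAut.conjNormal g e : E) : G₁) * (e : G₁)⁻¹ = _
    rw [MulAut.conjNormal_apply]
  have hker : E = ρ.ker := by
    ext y
    rw [MonoidHom.mem_ker]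
    constructor
    · intro hy
      refine LinearMap.ext fun v => Additive.toMul.injective (Subtype.ext ?_)
      show ((MulAut.conjNormal y (Additive.toMul v) : E) : G₁) = _
      rw [MulAut.conjNormal_apply, hEc y hy _ (Additive.toMul v).2, mul_inv_cancel_right]
      rfl
    · intro hy
      refine hCE (mem_centralizer_iff.2 fun e he => ?_)
      have h := congrArg (fun w => ((Additive.toMul w : E) : G₁))
        (LinearMap.congr_fun hy (Additive.ofMul (⟨e, he⟩ : E)))
      change ((MulAut.conjNormal y (⟨e, he⟩ : E) : E) : G₁) = e at h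
      rw [MulAut.conjNormal_apply] at h
      exact (mul_inv_eq_iff_eq_mul.1 h).symm
  set ρ' : G₁ ⧸ E →* Module.End (ZMod p) (Additive E) := QuotientGroup.lift E ρ hker.le with hρ'
  have hinj : Function.Injective ρ' := by
    rw [injective_iff_map_eq_one]
    intro z hz
    obtain ⟨y, rfl⟩ := QuotientGroup.mk_surjective z
    rw [QuotientGroup.eq_one_iff, hker, MonoidHom.mem_ker]
    exact hz
  have hconjA : ∀ a ∈ A, ∀ e : E, ⁅a, (e : G₁)⁆ ∈ A ∧ ⁅a, (e : G₁)⁆ ∈ E := by
    intro a ha e
    refine ⟨?_, ?_⟩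
    · rw [commutatorElement_def, mul_assoc, mul_assoc]
      refine mul_mem ha ?_
      rw [← mul_assoc]
      exact (mem_normalizer_iff.1 (hSA (hES e.2)) a⁻¹).1 (inv_mem ha)
    · rw [commutatorElement_def]
      exact mul_mem (Subgroup.Normal.conj_mem inferInstance _ e.2 a) (inv_mem e.2)
  have hquad : ∀ a ∈ A, (ρ a - 1) * (ρ a - 1) = 0 := by
    intro a ha
    refine LinearMap.ext fun v => Additive.toMul.injective (Subtype.ext ?_)
    obtain ⟨e, rfl⟩ := Additive.ofMul.surjective v
    rw [Module.End.mul_apply, ← ofMul_toMul ((ρ a - 1) (Additive.ofMul e)), hρv, hρv]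
    show _ = (1 : G₁)
    exact commutatorElement_eq_one_iff_mul_comm.2 (hAA a ha _ (hconjA a ha e).1)
  have hannA : ∀ a ∈ A, ∀ b ∈ B, (ρ a - 1) * ((ρ b - 1) * (ρ b - 1)) = 0 := by
    intro a ha b hb
    refine LinearMap.ext fun v => Additive.toMul.injective (Subtype.ext ?_)
    obtain ⟨e, rfl⟩ := Additive.ofMul.surjective v
    rw [Module.End.mul_apply, Module.End.mul_apply,
      ← ofMul_toMul ((ρ b - 1) (Additive.ofMul e)), ← ofMul_toMul ((ρ b - 1) (Additive.ofMul
        (Additive.toMul ((ρ b - 1) (Additive.ofMul e))))), hρv, hρv, hρv]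
    show _ = (1 : G₁)
    have h1 : ⁅b, (e : G₁)⁆ ∈ B := by
      rw [commutatorElement_def, mul_assoc, mul_assoc]
      refine mul_mem hb ?_
      rw [← mul_assoc]
      exact (mem_normalizer_iff.1 (hSB (hES e.2)) b⁻¹).1 (inv_mem hb)
    refine commutatorElement_eq_one_iff_mul_comm.2 (hAA a ha _ ?_)
    rw [hAB]
    exact commutator_mem_commutator hb h1
  -- suppose not
  by_contra hnot
  set π := QuotientGroup.mk' E with hπ
  set Bb := B.map π with hBb
  have hBbp : IsPGroup p Bb := ((S.2.to_le (map_subtype_le _)).map π)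
  have hAb : A.map π = ⁅Bb, Bb⁆ := by rw [hAB, map_commutator]
  have hAne : ⁅Bb, Bb⁆ ≠ ⊥ := by
    rw [← hAb, Ne, Subgroup.map_eq_bot_iff, hπ, QuotientGroup.ker_mk']
    exact hnot
  set N := (⁅Bb, Bb⁆).subgroupOf Bb with hN
  have hNne : N ≠ ⊥ := by
    rw [hN, Ne, subgroupOf_eq_bot, disjoint_iff, inf_eq_left.2 (commutator_le_self Bb)]
    exact hAne
  have hNn : N.Normal := (normal_subgroupOf_iff_le_normalizer (commutator_le_self Bb)).2
    (LocalChar.le_normalizer_commutator_of_le le_normalizer le_normalizer)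
  obtain ⟨z₀, hz₀, hz₀1⟩ := Puig.exists_mem_center_of_normal hBbp N hNne
  obtain ⟨k, hk⟩ := hBbp z₀
  obtain ⟨j, -, hj⟩ := (Nat.dvd_prime_pow Fact.out).1 (orderOf_dvd_of_pow_eq_one hk)
  have hj0 : j ≠ 0 := fun h => hz₀1 (by rw [← orderOf_eq_one_iff, hj, h, pow_zero])
  set z := z₀ ^ p ^ (j - 1) with hz
  have hzord : orderOf z = p := by
    rw [hz, orderOf_pow' _ (pow_ne_zero _ (Fact.out : p.Prime).ne_zero), hj,
      Nat.gcd_eq_right (pow_dvd_pow p (Nat.sub_le j 1)), Nat.pow_div (Nat.sub_le j 1)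
        (Fact.out : p.Prime).pos, show j - (j - 1) = 1 by omega, pow_one]
  have hzmem : z ∈ N ⊓ center Bb := pow_mem hz₀ _
  set x : G₁ ⧸ E := (z : G₁ ⧸ E) with hx
  have hxord : orderOf x = p := by rw [hx, Subgroup.orderOf_coe]; exact hzord
  have hxd : x ∈ ⁅Bb, Bb⁆ := mem_subgroupOf.1 hzmem.1
  obtain ⟨a, ha, hax⟩ : ∃ a ∈ A, π a = x := by
    rw [← hAb] at hxd
    exact mem_map.1 hxd
  have hρx : ρ' x = ρ a := by rw [← hax]; rfl
  have hxquad : (ρ' x - 1) * (ρ' x - 1) = 0 := by rw [hρx]; exact hquad a ha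
  rcases bound_linear hsol hOp ρ' hinj (x := x) (n := 1) le_rfl (by rw [hxord, pow_one]) (r := 2)
    (by rw [sq]; exact hxquad) with h | ⟨a', m, q, b, h1, h2, -, -, h3, h4, -⟩
  · rw [pow_one] at h
    have := (Fact.out : p.Prime).two_le
    omega
  · obtain rfl : m = 1 := by omega
    obtain rfl : a' = 0 := by omega
    rw [pow_zero, one_mul, pow_one] at h4
    obtain rfl : p = 3 := by
      have := (Fact.out : p.Prime).two_le
      omega
    refine no_configuration hsol hOp ρ' hinj hBbp hxd (fun y hy => ?_) hxord hxquad ?_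
    · exact congrArg Subtype.val (mem_center_iff.1 hzmem.2 ⟨y, hy⟩)
    · rintro _ ⟨b', hb', rfl⟩
      rw [hρx]
      exact hannA a ha b' hb'

theorem derived_map_eq_bot {G H : Type*} [Group G] [Group H] (f : G →* H) (S : Subgroup G) {n : ℕ}
    (h : (derivedSeries ↥S n).map S.subtype ≤ f.ker) : derivedSeries ↥(S.map f) n = ⊥ := by
  rw [← map_derivedSeries_eq (f := f.subgroupMap S) (MonoidHom.subgroupMap_surjective f S) n,
    Subgroup.map_eq_bot_iff]
  intro y hy
  rw [MonoidHom.mem_ker]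
  exact Subtype.ext (MonoidHom.mem_ker.1 (h ⟨y, hy, rfl⟩))

/-- **Hall–Higman.** For odd `p` the `p`-length is at most the derived length of a Sylow subgroup. -/
theorem pLengthLE_of_derived {p : ℕ} [Fact p.Prime] (hp2 : p ≠ 2) :
    ∀ (d : ℕ) {G : Type u} [Group G] [Finite G], IsPSolvable p G →
      (∀ P : Sylow p G, derivedSeries ↥(P : Subgroup G) d = ⊥) → PLengthLE p d G := by
  intro d
  induction d with
  | zero =>
    intro G _ _ _ hd
    refine pLengthLE_zero_of_coprime ?_
    obtain ⟨P⟩ : Nonempty (Sylow p G) := inferInstance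
    have hP : (P : Subgroup G) = ⊥ := by
      rw [_root_.eq_bot_iff]
      intro y hy
      have h : (⟨y, hy⟩ : ↥(P : Subgroup G)) ∈ derivedSeries ↥(P : Subgroup G) 0 := mem_top _
      rw [hd P, mem_bot] at h
      exact congrArg Subtype.val h
    have h2 : ¬ p ∣ Nat.card G := by
      have h3 := P.not_dvd_index
      rwa [hP, index_bot] at h3
    exact (((Fact.out : p.Prime)).coprime_iff_not_dvd.mpr h2).symm
  | succ d ih =>
    intro G _ _ hG hd
    obtain ⟨G₁, _, _, f, E, hL⟩ := exists_layer (p := p) hG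
    haveI := hL.normal
    set F := (QuotientGroup.mk' E).comp f with hF
    have hFs : Function.Surjective F := (QuotientGroup.mk'_surjective E).comp hL.surj
    have hG₁ : IsPSolvable p G₁ := isPSolvable_map hG f hL.surj
    have hH : IsPSolvable p (G₁ ⧸ E) := isPSolvable_quotient hG₁ E
    refine pLengthLE_succ_of_map hFs hL.ker_eq (ih hH fun T => ?_)
    obtain ⟨P, rfl⟩ := Sylow.mapSurjective_surjective hFs p T
    set S := P.mapSurjective hL.surj with hS
    have hSd : derivedSeries ↥(S : Subgroup G₁) (d + 1) = ⊥ := by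
      rw [hS, Sylow.coe_mapSurjective]
      refine derived_map_eq_bot f _ ?_
      rw [hd P, Subgroup.map_bot]
      exact bot_le
    have hle := derived_le_layer hp2 hL.comm hL.pow hL.centralizer_le hH hL.pCore_eq_bot S
      (hL.le_sylow S) d hSd
    rw [Sylow.coe_mapSurjective, hF, ← Subgroup.map_map]
    refine derived_map_eq_bot _ _ ?_
    rw [QuotientGroup.ker_mk']
    exact hle

end Cfsg.Agent.Lib.DerivedLength
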